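import Groth.Agent.Incid42.Forms
import Mathlib.Algebra.MvPolynomial.PDeriv
import Mathlib.LinearAlgebra.Dual.Lemmas
import Mathlib.RingTheory.MvPolynomial.EulerIdentity

/-!
# First-order conditions at a point
-/

set_option autoImplicit false

universe u

open LefPen MvPolynomial

namespace Groth.Agent.Incid42

variable {k : Type u} [Field k] {n d : ℕ}

/-- The linear form with given coefficients. -/
noncomputable def linPoly (l : Fin (n + 1) → k) : MvPolynomial (Fin (n + 1)) k := ∑ i, C (l i) * X i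

theorem isHomogeneous_linPoly (l : Fin (n + 1) → k) : (linPoly l).IsHomogeneous 1 :=
  IsHomogeneous.sum _ _ _ fun _ _ => (isHomogeneous_X _ _).C_mul _

theorem eval_linPoly (l v : Fin (n + 1) → k) : eval v (linPoly l) = ∑ i, l i * v i := by
  simp [linPoly]

theorem pderiv_linPoly (l : Fin (n + 1) → k) (i : Fin (n + 1)) : pderiv i (linPoly l) = C (l i) := by
  simp [linPoly, pderiv_X, Pi.single_apply]

/-- A product `λ ^ e * ν` of linear forms, as a form. -/
noncomputable def powMulForm (l : Fin (n + 1) → k) (e : ℕ) (ν : Fin (n + 1) → k) : Form n k (e + 1) :=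
  ⟨linPoly l ^ e * linPoly ν, (mem_homogeneousSubmodule _ _).2 <| by
    simpa using ((isHomogeneous_linPoly l).pow e).mul (isHomogeneous_linPoly ν)⟩

theorem eval_powMulForm (l : Fin (n + 1) → k) (e : ℕ) (ν v : Fin (n + 1) → k) :
    eval v (powMulForm l e ν).1 = (∑ i, l i * v i) ^ e * ∑ i, ν i * v i := by
  simp [powMulForm, eval_linPoly]

theorem eval_pderiv_powMulForm (l : Fin (n + 1) → k) (e : ℕ) (ν v : Fin (n + 1) → k) (j : Fin (n + 1)) :
    eval v (pderiv j (powMulForm l e ν).1) =
      (∑ i, l i * v i) ^ e * ν j + e * (∑ i, l i * v i) ^ (e - 1) * l j * ∑ i, ν i * v i := by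
  simp [powMulForm, eval_linPoly, pderiv_linPoly]
  ring

theorem exists_linear_sep (U : Submodule k (Fin (n + 1) → k)) {v : Fin (n + 1) → k} (hv : v ∉ U) :
    ∃ l : Fin (n + 1) → k, (∑ i, l i * v i) = 1 ∧ ∀ u ∈ U, ∑ i, l i * u i = 0 := by
  obtain ⟨φ, hφv, hφU⟩ := Submodule.exists_dual_map_eq_bot_of_notMem hv inferInstance
  have hsum : ∀ x, φ x = ∑ i, φ (Pi.single i 1) * x i := fun x => by
    conv_lhs => rw [pi_eq_sum_univ' x, map_sum]
    exact Finset.sum_congr rfl fun i _ => by rw [map_smul, smul_eq_mul, mul_comm]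
  refine ⟨fun i => (φ v)⁻¹ * φ (Pi.single i 1), ?_, fun u hu => ?_⟩ <;>
    simp only [mul_assoc, ← Finset.mul_sum, ← hsum]
  · exact inv_mul_cancel₀ hφv
  · have : φ u = 0 := by
      have : φ u ∈ U.map φ := ⟨u, hu, rfl⟩
      simpa [hφU] using this
    rw [this, mul_zero]

theorem eval_smul_of_isHomogeneous {σ : Type*} {e : ℕ} {P : MvPolynomial σ k} (hP : P.IsHomogeneous e)
    (c : k) (x : σ → k) : eval (c • x) P = c ^ e * eval x P := by
  classical
  conv_lhs => rw [P.as_sum]
  conv_rhs => rw [P.as_sum]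
  rw [map_sum, map_sum, Finset.mul_sum]
  refine Finset.sum_congr rfl fun m hm => ?_
  have hdeg : ∑ i ∈ m.support, m i = e := by
    simpa [Finsupp.weight_apply, Finsupp.sum] using hP (mem_support_iff.1 hm)
  rw [eval_monomial, eval_monomial]
  simp only [Pi.smul_apply, smul_eq_mul, Finsupp.prod, mul_pow, Finset.prod_mul_distrib,
    Finset.prod_pow_eq_pow_sum, hdeg]
  ring

theorem isHomogeneous_pderiv (G : Form n k (d + 1)) (i : Fin (n + 1)) :
    (pderiv i G.1).IsHomogeneous d := by
  simpa using IsHomogeneous.pderiv (i := i) ((mem_homogeneousSubmodule _ _).1 G.2)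

section Family

variable {W : Submodule k (Form n k d)}

/-- The value and the partial derivative along `i`, at a point. -/
noncomputable def evalForm (v : Fin (n + 1) → k) : Form n k d →ₗ[k] k :=
  (MvPolynomial.aeval v).toLinearMap ∘ₗ Submodule.subtype _

noncomputable def pderivForm (v : Fin (n + 1) → k) (i : Fin (n + 1)) : Form n k d →ₗ[k] k :=
  (MvPolynomial.aeval v).toLinearMap ∘ₗ (MvPolynomial.pderiv i).toLinearMap ∘ₗ Submodule.subtype _

theorem evalForm_apply (v : Fin (n + 1) → k) (G : Form n k d) : evalForm v G = eval v G.1 := rfl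

theorem pderivForm_apply (v : Fin (n + 1) → k) (i : Fin (n + 1)) (G : Form n k d) :
    pderivForm v i G = eval v (pderiv i G.1) := rfl

/-- Value and partials off `c`, at a chart point. -/
noncomputable def tangentEqns (W : Submodule k (Form n k d)) (v : Fin (n + 1) → k) (c : Fin (n + 1)) :
    ↥W →ₗ[k] (Option {j : Fin (n + 1) // j ≠ c} → k) :=
  (LinearMap.pi fun o => o.elim (evalForm v) fun j => pderivForm v j.1) ∘ₗ W.subtype

end Family

end Groth.Agent.Incid42
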