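import Groth.Agent.Incid42.Forms
import Groth.Agent.Incid42.Tangent
import Mathlib.RingTheory.Nullstellensatz
import Mathlib.RingTheory.MvPolynomial.Ideal

/-!
# Elimination: the parameters with a non-trivial common zero form a closed set
-/

set_option autoImplicit false

universe u

open LefPen MvPolynomial

namespace Groth.Agent.Incid42

variable {k : Type u} [Field k] [IsAlgClosed k]
variable {V : Type u} [AddCommGroup V] [Module k V]
variable {p : ℕ} {T : Type*}

theorem homogeneousComponent_mul_of_isHomogeneous {σ : Type*} {P : MvPolynomial σ k} {e D : ℕ}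
    (hP : P.IsHomogeneous e) (h : MvPolynomial σ k) :
    homogeneousComponent D (h * P) = if e ≤ D then homogeneousComponent (D - e) h * P else 0 := by
  classical
  conv_lhs => rw [← sum_homogeneousComponent h, Finset.sum_mul, map_sum]
  have hterm : ∀ i, homogeneousComponent D (homogeneousComponent i h * P) =
      if i + e = D then homogeneousComponent i h * P else 0 := fun i => by
    rw [homogeneousComponent_of_mem ((mem_homogeneousSubmodule _ _).2
      ((homogeneousComponent_isHomogeneous i h).mul hP))]
    split_ifs <;> first | rfl | (exfalso; omega)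
  simp only [hterm]
  split_ifs with heD
  · rw [Finset.sum_congr rfl fun i _ => show (if i + e = D then _ else (0 : MvPolynomial σ k)) =
      if i = D - e then homogeneousComponent i h * P else 0 by split_ifs <;> first | rfl | (exfalso; omega)]
    rw [Finset.sum_ite_eq']
    split_ifs with hm
    · rfl
    · rw [homogeneousComponent_eq_zero _ _ (by simp at hm; omega), zero_mul]
  · exact Finset.sum_eq_zero fun i _ => if_neg (by omega)

theorem degree_eq_of_mem_support {σ : Type*} {F : MvPolynomial σ k} {D : ℕ} (hF : F.IsHomogeneous D)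
    {a : σ →₀ ℕ} (ha : a ∈ F.support) : a.degree = D := by
  rw [Finsupp.degree_eq_weight_one]
  exact hF (mem_support_iff.1 ha)

/-- If the forms have no common zero but `0`, some degree is filled by their multiples. -/
theorem exists_degree_spanned (P : T → MvPolynomial (Fin (p + 1)) k) (e : T → ℕ)
    (hP : ∀ t, (P t).IsHomogeneous (e t))
    (hno : ∀ x, (∀ t, eval x (P t) = 0) → x = 0) :
    ∃ D, Submodule.span k {F : Form p k D | ∃ (t : T) (b : Fin (p + 1) →₀ ℕ),
      b.degree + e t = D ∧ F.1 = monomial b 1 * P t} = ⊤ := by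
  classical
  set I := Ideal.span (Set.range P)
  have hrad : ∀ i, (X i : MvPolynomial (Fin (p + 1)) k) ∈ I.radical := fun i => by
    rw [← vanishingIdeal_zeroLocus_eq_radical (K := k), mem_vanishingIdeal_iff]
    intro x hx
    have : x = 0 := hno x fun t => hx (P t) (Ideal.subset_span ⟨t, rfl⟩)
    simp [this]
  choose m hm using hrad
  refine ⟨∑ i, m i + 1, ?_⟩
  set D := ∑ i, m i + 1
  rw [eq_top_iff]
  rintro F -
  have hmon : ∀ a : Fin (p + 1) →₀ ℕ, a.degree = D → monomial a (1 : k) ∈ I := fun a ha => by
    obtain ⟨i, hi⟩ : ∃ i, m i ≤ a i := by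
      by_contra! h
      have h1 : a.degree ≤ ∑ i, m i := by
        rw [Finsupp.degree_eq_sum]; exact Finset.sum_le_sum fun i _ => (h i).le
      omega
    have hdecomp : monomial a (1 : k) = X i ^ m i * monomial (a - Finsupp.single i (m i)) 1 := by
      rw [X_pow_eq_monomial, monomial_mul, one_mul, add_tsub_cancel_of_le (by simpa using hi)]
    rw [hdecomp]
    exact Ideal.mul_mem_right _ _ (hm i)
  have hFI : F.1 ∈ I := by
    rw [F.1.as_sum]
    refine sum_mem fun a ha => ?_
    have hdeg : a.degree = D := degree_eq_of_mem_support ((mem_homogeneousSubmodule _ _).1 F.2) ha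
    have : monomial a (coeff a F.1) = C (coeff a F.1) * monomial a 1 := by
      rw [C_mul_monomial, mul_one]
    rw [this]
    exact Ideal.mul_mem_left _ _ (hmon a hdeg)
  obtain ⟨c, hc⟩ := Finsupp.mem_ideal_span_range_iff_exists_finsupp.1 hFI
  let S : Submodule k (MvPolynomial (Fin (p + 1)) k) :=
    (Submodule.span k {F : Form p k D | ∃ (t : T) (b : Fin (p + 1) →₀ ℕ),
      b.degree + e t = D ∧ F.1 = monomial b 1 * P t}).map (Submodule.subtype _)
  suffices h : F.1 ∈ S by
    obtain ⟨F', hF', hEq⟩ := h
    exact (Subtype.ext hEq : F' = F) ▸ hF'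
  rw [← homogeneousComponent_eq_self ((mem_homogeneousSubmodule _ _).1 F.2), ← hc, Finsupp.sum, map_sum]
  refine sum_mem fun t _ => ?_
  rw [homogeneousComponent_mul_of_isHomogeneous (hP t)]
  split_ifs with hle
  · rw [(homogeneousComponent (D - e t) (c t)).as_sum, Finset.sum_mul]
    refine sum_mem fun b hb => ?_
    have hdeg : b.degree + e t = D := by
      have := degree_eq_of_mem_support (homogeneousComponent_isHomogeneous (D - e t) (c t)) hb
      omega
    have : monomial b (coeff b (homogeneousComponent (D - e t) (c t))) * P t =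
        coeff b (homogeneousComponent (D - e t) (c t)) • (monomial b 1 * P t) := by
      rw [← smul_mul_assoc, smul_monomial, smul_eq_mul, mul_one]
    rw [this]
    refine S.smul_mem _ ⟨⟨monomial b 1 * P t, (mem_homogeneousSubmodule _ _).2 ?_⟩,
      Submodule.subset_span ⟨t, b, hdeg, rfl⟩, rfl⟩
    exact hdeg ▸ (isHomogeneous_monomial _ rfl).mul (hP t)
  · exact zero_mem _

/-- The parameters for which the system has no non-trivial zero form an open set. -/
theorem isZOpen_noCommonZero (P : T → V → MvPolynomial (Fin (p + 1)) k) (e : T → ℕ)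
    (hP : ∀ t v, (P t v).IsHomogeneous (e t)) (hpoly : ∀ t, IsPolyFamily k (P t)) :
    IsZOpen k {v : V | ∀ x, (∀ t, eval x (P t v) = 0) → x = 0} := by
  classical
  intro v₀ hv₀
  obtain ⟨D, hD⟩ := exists_degree_spanned (fun t => P t v₀) e (fun t => hP t v₀) hv₀
  let G : {q : T × (Fin (p + 1) →₀ ℕ) // q.2.degree + e q.1 = D} → V → Form p k D := fun q v =>
    ⟨monomial q.1.2 1 * P q.1.1 v, (mem_homogeneousSubmodule _ _).2
      (q.2 ▸ (isHomogeneous_monomial _ rfl).mul (hP q.1.1 v))⟩
  have hrange : Submodule.span k (Set.range fun q => G q v₀) = ⊤ := by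
    refine le_antisymm le_top (hD.symm.le.trans (Submodule.span_mono ?_))
    rintro F ⟨t, b, hb, hF⟩
    exact ⟨⟨⟨t, b⟩, hb⟩, Subtype.ext hF.symm⟩
  obtain ⟨κ, a, ha, hsp, hli⟩ := exists_linearIndependent' k fun q => G q v₀
  rw [hrange] at hsp
  let B := Module.Basis.mk hli hsp.ge
  have := FiniteDimensional.fintypeBasisIndex B
  let σ : Mon p D ≃ κ := (Fintype.equivOfCardEq (by
    rw [card_mon, ← Module.finrank_eq_card_basis B, finrank_form]) : Mon p D ≃ κ)
  let M : V → Matrix (Mon p D) (Mon p D) k := fun v => Matrix.of fun i j => formEquiv k p D (G (a (σ j)) v) i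
  refine ⟨fun v => (M v).det, isPolyFun_det _ fun i j => ?_, ?_, fun v hv x hx => ?_⟩
  · exact isPolyFamily_mul (isPolyFamily_const _) (hpoly _) i.1
  · refine ((Matrix.isUnit_iff_isUnit_det _).1 ?_).ne_zero
    rw [← Matrix.linearIndependent_cols_iff_isUnit]
    exact ((hli.comp σ σ.injective).map' (formEquiv k p D).toLinearMap (LinearEquiv.ker _))
  · have hcols : Submodule.span k (Set.range fun j => formEquiv k p D (G (a (σ j)) v)) = ⊤ := by
      have hu : IsUnit (M v) := (Matrix.isUnit_iff_isUnit_det _).2 (isUnit_iff_ne_zero.2 hv)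
      rw [← Matrix.linearIndependent_cols_iff_isUnit] at hu
      exact LinearIndependent.span_eq_top_of_card_eq_finrank' hu (by simp)
    have hall : ∀ F : Form p k D, eval x F.1 = 0 := fun F => by
      have hF : formEquiv k p D F ∈ Submodule.span k (Set.range fun j => formEquiv k p D (G (a (σ j)) v)) :=
        hcols ▸ trivial
      rw [show (fun j => formEquiv k p D (G (a (σ j)) v)) = formEquiv k p D ∘ fun j => G (a (σ j)) v from rfl,
        Set.range_comp] at hF
      rw [show (formEquiv k p D : Form p k D → (Mon p D → k)) = (formEquiv k p D).toLinearMap from rfl,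
        ← Submodule.map_span] at hF
      obtain ⟨F', hF', hEq⟩ := hF
      rw [← (formEquiv k p D).injective hEq]
      have hle : Submodule.span k (Set.range fun j => G (a (σ j)) v) ≤ LinearMap.ker (evalForm x) := by
        refine Submodule.span_le.2 ?_
        rintro _ ⟨j, rfl⟩
        show eval x (monomial _ 1 * P _ v) = 0
        rw [map_mul, hx, mul_zero]
      exact hle hF'
    funext i
    have := hall ⟨X i ^ D, (mem_homogeneousSubmodule _ _).2 (by simpa using (isHomogeneous_X k i).pow D)⟩
    rw [map_pow, eval_X] at this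
    exact (pow_eq_zero_iff'.1 this).1

end Groth.Agent.Incid42
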