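import Groth.Prelude.Def_LefPen
import Mathlib.Algebra.MvPolynomial.Funext
import Mathlib.Algebra.MvPolynomial.Equiv
import Mathlib.RingTheory.AlgebraicIndependent.TranscendenceBasis
import Mathlib.LinearAlgebra.Dimension.Free
import Mathlib.LinearAlgebra.FiniteDimensional.Basic

/-!
# Polynomial functions and maps, and counting of parameters

A polynomial map from a space of smaller dimension misses a non-empty open set, and a polynomial map
from a space of at most the same dimension has finite fibres over a non-empty open set.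
-/

set_option autoImplicit false

universe u

open LefPen MvPolynomial

namespace Groth.Agent.Incid42

variable {k : Type u} [Field k]
variable {V W Z : Type u} [AddCommGroup V] [Module k V] [AddCommGroup W] [Module k W]
  [AddCommGroup Z] [Module k Z]

theorem eval_aeval {σ τ : Type*} (P : τ → MvPolynomial σ k) (x : σ → k) (Q : MvPolynomial τ k) :
    eval x (aeval P Q) = eval (fun j => eval x (P j)) Q := by
  induction Q using MvPolynomial.induction_on with
  | C a => simp
  | add p q hp hq => rw [map_add, map_add, hp, hq, map_add]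
  | mul_X p j hp => rw [map_mul, map_mul, hp, map_mul, aeval_X, eval_X]

section Fun

variable {f g : V → k}

theorem isPolyFun_const (c : k) : IsPolyFun k (fun _ : V => c) :=
  Subalgebra.algebraMap_mem _ c

theorem isPolyFun_linear (l : Module.Dual k V) : IsPolyFun k (fun v => l v) :=
  Algebra.subset_adjoin ⟨l, rfl⟩

theorem isPolyFun_add (hf : IsPolyFun k f) (hg : IsPolyFun k g) : IsPolyFun k (fun v => f v + g v) :=
  add_mem hf hg

theorem isPolyFun_mul (hf : IsPolyFun k f) (hg : IsPolyFun k g) : IsPolyFun k (fun v => f v * g v) :=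
  mul_mem hf hg

theorem isPolyFun_neg (hf : IsPolyFun k f) : IsPolyFun k (fun v => -f v) :=
  neg_mem hf

theorem isPolyFun_sub (hf : IsPolyFun k f) (hg : IsPolyFun k g) : IsPolyFun k (fun v => f v - g v) :=
  sub_mem hf hg

theorem isPolyFun_pow (hf : IsPolyFun k f) (n : ℕ) : IsPolyFun k (fun v => f v ^ n) :=
  pow_mem hf n

theorem isPolyFun_sum {ι : Type*} (s : Finset ι) (F : ι → V → k) (h : ∀ i ∈ s, IsPolyFun k (F i)) :
    IsPolyFun k (fun v => ∑ i ∈ s, F i v) := by
  have : (∑ i ∈ s, F i) = fun v => ∑ i ∈ s, F i v := funext fun v => Finset.sum_apply v s F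
  rw [← this]
  exact sum_mem h

theorem isPolyFun_prod {ι : Type*} (s : Finset ι) (F : ι → V → k) (h : ∀ i ∈ s, IsPolyFun k (F i)) :
    IsPolyFun k (fun v => ∏ i ∈ s, F i v) := by
  have : (∏ i ∈ s, F i) = fun v => ∏ i ∈ s, F i v := funext fun v => Finset.prod_apply v s F
  rw [← this]
  exact prod_mem h

theorem isPolyFun_eval {σ : Type*} (p : MvPolynomial σ k) (F : σ → V → k) (h : ∀ i, IsPolyFun k (F i)) :
    IsPolyFun k (fun v => eval (fun i => F i v) p) := by
  induction p using MvPolynomial.induction_on with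
  | C a => simpa using isPolyFun_const (V := V) a
  | add p q hp hq => simpa using isPolyFun_add hp hq
  | mul_X p j hp => simpa using isPolyFun_mul hp (h j)

theorem isPolyFun_det {ι : Type*} [Fintype ι] [DecidableEq ι] (M : V → Matrix ι ι k)
    (h : ∀ i j, IsPolyFun k (fun v => M v i j)) : IsPolyFun k (fun v => (M v).det) := by
  simp only [Matrix.det_apply']
  exact isPolyFun_sum _ _ fun σ _ => isPolyFun_mul (isPolyFun_const _) (isPolyFun_prod _ _ fun i _ => h _ _)

theorem isPolyFun_adjugate {ι : Type*} [Fintype ι] [DecidableEq ι] (M : V → Matrix ι ι k)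
    (h : ∀ i j, IsPolyFun k (fun v => M v i j)) (a b : ι) :
    IsPolyFun k (fun v => (M v).adjugate a b) := by
  simp only [Matrix.adjugate_apply]
  refine isPolyFun_det _ fun i j => ?_
  by_cases hi : i = b
  · subst hi
    simp only [Matrix.updateRow_self]
    exact isPolyFun_const _
  · simp only [Matrix.updateRow_ne hi]
    exact h i j

/-- Polynomial functions are the polynomials in the coordinates of a basis. -/
theorem exists_eval_eq {ι : Type*} [Fintype ι] (b : Module.Basis ι k V) (hf : IsPolyFun k f) :
    ∃ p : MvPolynomial ι k, ∀ v, f v = eval (fun i => b.repr v i) p := by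
  induction hf using Algebra.adjoin_induction with
  | mem x hx =>
    obtain ⟨l, rfl⟩ := hx
    refine ⟨∑ i, C (l (b i)) * X i, fun v => ?_⟩
    show l v = _
    conv_lhs => rw [← b.sum_repr v, map_sum]
    simp [mul_comm]
  | algebraMap r => exact ⟨C r, fun v => by simp⟩
  | add x y _ _ hx hy =>
    obtain ⟨p, hp⟩ := hx
    obtain ⟨q, hq⟩ := hy
    exact ⟨p + q, fun v => by simp [hp, hq]⟩
  | mul x y _ _ hx hy =>
    obtain ⟨p, hp⟩ := hx
    obtain ⟨q, hq⟩ := hy
    exact ⟨p * q, fun v => by simp [hp, hq]⟩

end Fun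

section Map

variable (k) in
/-- A map all of whose coordinates are polynomial functions. -/
def IsPolyMap (ψ : W → V) : Prop := ∀ l : Module.Dual k V, IsPolyFun k (fun w => l (ψ w))

theorem isPolyMap_linear (L : W →ₗ[k] V) : IsPolyMap k (fun w => L w) :=
  fun l => isPolyFun_linear (l ∘ₗ L)

theorem isPolyMap_const (v : V) : IsPolyMap k (fun _ : W => v) := fun _ => isPolyFun_const _

theorem isPolyMap_add {ψ φ : W → V} (h₁ : IsPolyMap k ψ) (h₂ : IsPolyMap k φ) :
    IsPolyMap k (fun w => ψ w + φ w) := fun l => by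
  simpa using isPolyFun_add (h₁ l) (h₂ l)

theorem isPolyMap_sub {ψ φ : W → V} (h₁ : IsPolyMap k ψ) (h₂ : IsPolyMap k φ) :
    IsPolyMap k (fun w => ψ w - φ w) := fun l => by
  simpa using isPolyFun_sub (h₁ l) (h₂ l)

theorem isPolyMap_smul {a : W → k} {ψ : W → V} (ha : IsPolyFun k a) (hψ : IsPolyMap k ψ) :
    IsPolyMap k (fun w => a w • ψ w) := fun l => by
  simpa using isPolyFun_mul ha (hψ l)

theorem isPolyMap_sum {ι : Type*} (s : Finset ι) (F : ι → W → V) (h : ∀ i ∈ s, IsPolyMap k (F i)) :
    IsPolyMap k (fun w => ∑ i ∈ s, F i w) := fun l => by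
  simp only [map_sum]
  exact isPolyFun_sum _ _ fun i hi => h i hi l

theorem isPolyFun_comp {f : V → k} {ψ : W → V} (hf : IsPolyFun k f) (hψ : IsPolyMap k ψ) :
    IsPolyFun k (fun w => f (ψ w)) := by
  induction hf using Algebra.adjoin_induction with
  | mem x hx =>
    obtain ⟨l, rfl⟩ := hx
    exact hψ l
  | algebraMap r => exact isPolyFun_const _
  | add x y _ _ hx hy => simpa using isPolyFun_add hx hy
  | mul x y _ _ hx hy => simpa using isPolyFun_mul hx hy

theorem isPolyMap_comp {φ : V → Z} {ψ : W → V} (hφ : IsPolyMap k φ) (hψ : IsPolyMap k ψ) :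
    IsPolyMap k (fun w => φ (ψ w)) := fun l => isPolyFun_comp (f := fun v => l (φ v)) (hφ l) hψ

theorem isPolyMap_pi {ι : Type} [Finite ι] {ψ : W → ι → k} (h : ∀ i, IsPolyFun k (fun w => ψ w i)) :
    IsPolyMap k ψ := fun l => by
  classical
  cases nonempty_fintype ι
  have : (fun w => l (ψ w)) = fun w => ∑ i, ψ w i * l (Pi.single i 1) := funext fun w => by
    conv_lhs => rw [show ψ w = ∑ i, ψ w i • (Pi.single i (1 : k) : ι → k) from pi_eq_sum_univ' _]
    simp [map_sum]
  rw [this]
  exact isPolyFun_sum _ _ fun i _ => isPolyFun_mul (h i) (isPolyFun_const _)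

end Map

section Generic

theorem isGeneric_mono {S T : Set V} (h : IsGeneric k S) (hST : S ⊆ T) : IsGeneric k T :=
  let ⟨f, hf, hne, hsub⟩ := h
  ⟨f, hf, hne, fun v hv => hST (hsub v hv)⟩

theorem isGeneric_univ : IsGeneric k (Set.univ : Set V) :=
  ⟨fun _ => 1, isPolyFun_const 1, ⟨0, one_ne_zero⟩, fun _ _ => trivial⟩

theorem isGeneric_nonempty {S : Set V} (h : IsGeneric k S) : S.Nonempty :=
  let ⟨_, _, ⟨v, hv⟩, hsub⟩ := h
  ⟨v, hsub v hv⟩

variable [FiniteDimensional k V] [Infinite k]

theorem exists_ne_zero_mul {f g : V → k} (hf : IsPolyFun k f) (hg : IsPolyFun k g)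
    (hf0 : ∃ v, f v ≠ 0) (hg0 : ∃ v, g v ≠ 0) : ∃ v, f v * g v ≠ 0 := by
  let b := Module.finBasis k V
  obtain ⟨p, hp⟩ := exists_eval_eq b hf
  obtain ⟨q, hq⟩ := exists_eval_eq b hg
  by_contra! h
  have hpq : p * q = 0 := MvPolynomial.funext fun x => by
    have := h (b.equivFun.symm x)
    rw [hp, hq] at this
    have hx : (fun i => b.repr (b.equivFun.symm x) i) = x := b.equivFun.apply_symm_apply x
    rw [hx] at this
    simpa using this
  rcases mul_eq_zero.1 hpq with h0 | h0
  · obtain ⟨v, hv⟩ := hf0
    exact hv (by rw [hp, h0, map_zero])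
  · obtain ⟨v, hv⟩ := hg0
    exact hv (by rw [hq, h0, map_zero])

theorem isGeneric_inter {S T : Set V} (hS : IsGeneric k S) (hT : IsGeneric k T) :
    IsGeneric k (S ∩ T) := by
  obtain ⟨f, hf, hf0, hfS⟩ := hS
  obtain ⟨g, hg, hg0, hgT⟩ := hT
  exact ⟨fun v => f v * g v, isPolyFun_mul hf hg, exists_ne_zero_mul hf hg hf0 hg0,
    fun v hv => ⟨hfS v (left_ne_zero_of_mul hv), hgT v (right_ne_zero_of_mul hv)⟩⟩

theorem isGeneric_iInter {ι : Type*} [Finite ι] {S : ι → Set V} (h : ∀ i, IsGeneric k (S i)) :
    IsGeneric k (⋂ i, S i) := by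
  classical
  cases nonempty_fintype ι
  suffices ∀ s : Finset ι, IsGeneric k (⋂ i ∈ s, S i) by simpa using this Finset.univ
  intro s
  induction s using Finset.induction_on with
  | empty => simpa using isGeneric_univ (k := k) (V := V)
  | insert i s _ ih => rw [Finset.set_biInter_insert]; exact isGeneric_inter (h i) ih

variable [FiniteDimensional k W]

omit [Infinite k] in
/-- More functions than parameters are algebraically dependent. -/
theorem exists_relation {κ : Type} [Fintype κ] {N : ℕ} (hN : N < Fintype.card κ)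
    (P : κ → MvPolynomial (Fin N) k) : ∃ Q : MvPolynomial κ k, Q ≠ 0 ∧ aeval P Q = 0 := by
  have hdep : ¬ AlgebraicIndependent k P := fun h => by
    have := h.lift_cardinalMk_le_trdeg
    rw [MvPolynomial.trdeg_of_isDomain] at this
    simp only [Cardinal.mk_fintype, Cardinal.lift_natCast, Nat.cast_le, Fintype.card_fin] at this
    omega
  rw [algebraicIndependent_iff] at hdep
  push Not at hdep
  obtain ⟨Q, h1, h2⟩ := hdep
  exact ⟨Q, h2, h1⟩

/-- The image of a polynomial map from a space of smaller dimension lies in a proper closed set. -/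
theorem isGeneric_notMem_range {ψ : W → V} (hψ : IsPolyMap k ψ)
    (h : Module.finrank k W < Module.finrank k V) : IsGeneric k {v | v ∉ Set.range ψ} := by
  let bW := Module.finBasis k W
  let b := Module.finBasis k V
  have hP : ∀ j, ∃ p, ∀ w, b.repr (ψ w) j = eval (fun i => bW.repr w i) p :=
    fun j => exists_eval_eq bW (hψ (b.coord j))
  choose P hP using hP
  obtain ⟨Q, hQ0, hQ⟩ := exists_relation (by simpa using h) P
  refine ⟨fun v => eval (fun j => b.repr v j) Q, isPolyFun_eval Q _ fun j => isPolyFun_linear (b.coord j), ?_, ?_⟩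
  · by_contra! hz
    refine hQ0 (MvPolynomial.funext fun x => ?_)
    have := hz (b.equivFun.symm x)
    have hx : (fun i => b.repr (b.equivFun.symm x) i) = x := b.equivFun.apply_symm_apply x
    rw [hx] at this
    simpa using this
  · rintro v hv ⟨w, rfl⟩
    refine hv ?_
    simp only [hP]
    rw [← eval_aeval P, hQ, map_zero]

/-- A polynomial map from a space of at most the same dimension has finite generic fibres. -/
theorem isGeneric_finite_fibre {ψ : W → V} (hψ : IsPolyMap k ψ)
    (h : Module.finrank k W ≤ Module.finrank k V) : IsGeneric k {v | {w | ψ w = v}.Finite} := by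
  classical
  let bW := Module.finBasis k W
  let b := Module.finBasis k V
  have hP : ∀ j, ∃ p, ∀ w, b.repr (ψ w) j = eval (fun i => bW.repr w i) p :=
    fun j => exists_eval_eq bW (hψ (b.coord j))
  choose P hP using hP
  have hi : ∀ i, IsGeneric k {v | ((fun w => bW.repr w i) '' {w | ψ w = v}).Finite} := by
    intro i
    obtain ⟨Q, hQ0, hQ⟩ := exists_relation (N := Module.finrank k W)
      (κ := Option (Fin (Module.finrank k V))) (by simp; omega) (fun o => o.elim (X i) P)
    let R := optionEquivLeft k (Fin (Module.finrank k V)) Q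
    have hR : R ≠ 0 := by simpa [R] using hQ0
    refine ⟨fun v => eval (fun j => b.repr v j) R.leadingCoeff,
      isPolyFun_eval _ _ fun j => isPolyFun_linear (b.coord j), ?_, fun v hv => ?_⟩
    · by_contra! hz
      refine Polynomial.leadingCoeff_ne_zero.2 hR (MvPolynomial.funext fun x => ?_)
      have := hz (b.equivFun.symm x)
      have hx : (fun j => b.repr (b.equivFun.symm x) j) = x := b.equivFun.apply_symm_apply x
      rw [hx] at this
      simpa using this
    · let p := R.map (eval fun j => b.repr v j)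
      have hp : p ≠ 0 := fun h0 => hv (by
        have := congrArg (fun q => q.coeff R.natDegree) h0
        simpa [p, Polynomial.coeff_map] using this)
      refine (Multiset.finite_toSet p.roots).subset ?_
      rintro _ ⟨w, hw, rfl⟩
      rw [Set.mem_setOf_eq] at hw
      show bW.repr w i ∈ p.roots
      rw [Polynomial.mem_roots hp, Polynomial.IsRoot, ← optionEquivLeft_elim_eval, ← hw]
      have := congrArg (eval fun a => bW.repr w a) hQ
      rw [map_zero, eval_aeval] at this
      refine Eq.trans (congrArg (fun φ => eval φ Q) (_root_.funext fun o => ?_)) this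
      cases o <;> simp [hP]
  refine isGeneric_mono (isGeneric_iInter hi) fun v hv => ?_
  rw [Set.mem_iInter] at hv
  exact Set.Finite.of_finite_image ((Set.Finite.pi hv).subset
    (s := Set.pi Set.univ fun i => (fun w => bW.repr w i) '' {w | ψ w = v})
    (t := (fun w i => bW.repr w i) '' {w | ψ w = v})
    (by rintro _ ⟨w, hw, rfl⟩ i -; exact ⟨w, hw, rfl⟩)) bW.equivFun.injective.injOn

end Generic

end Groth.Agent.Incid42
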