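import Groth.Agent.Incid42.Divisor
import Groth.Agent.Incid42.Binary

/-!
# Linear series of binary forms: contraction by a functional
-/

set_option autoImplicit false

universe u

open MvPolynomial

namespace Groth.Agent.Incid42

variable {k : Type u} [Field k]

theorem linPoly_ne_zero {n : ℕ} {l : Fin (n + 1) → k} (h : l ≠ 0) : linPoly l ≠ 0 := fun h0 => h (_root_.funext fun i => by
  simpa [pderiv_linPoly] using congrArg (pderiv i) h0)

/-- A binary form vanishing at a point is divisible by the linear form of the point. -/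
theorem dvd_of_eval_eq_zero [Infinite k] {P : MvPolynomial (Fin 2) k} {d : ℕ} (hP : P.IsHomogeneous d) {a : Fin 2 → k}
    (ha : a ≠ 0) (h : eval a P = 0) : linPoly (n := 1) ![a 1, -a 0] ∣ P := by
  classical
  obtain ⟨i, hi⟩ : ∃ i, a i ≠ 0 := by
    by_contra! h'
    exact ha (_root_.funext h')
  let ψ : Fin 2 → MvPolynomial (Fin 2) k := fun j => C (a j / a i) * X i
  have hP0 : aeval ψ P = 0 := MvPolynomial.funext fun x => by
    rw [eval_aeval, show (fun j => eval x (ψ j)) = (x i / a i) • a from _root_.funext fun j => by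
      simp [ψ]; ring, eval_smul_of_isHomogeneous hP, h, mul_zero, map_zero]
  set L : MvPolynomial (Fin 2) k := linPoly (n := 1) ![a 1, -a 0] with hL
  have hq : ∀ j, Ideal.Quotient.mk (Ideal.span {L}) (X j) = Ideal.Quotient.mk (Ideal.span {L}) (ψ j) := by
    intro j
    rw [Ideal.Quotient.eq, Ideal.mem_span_singleton]
    have h01 : L = C (a 1) * X 0 + C (-a 0) * X 1 := by rw [hL, linPoly, Fin.sum_univ_two]; rfl
    fin_cases i <;> fin_cases j <;> simp only [ψ, Fin.zero_eta, Fin.mk_one] at hi ⊢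
    · exact ⟨0, by simp [div_self hi]⟩
    · refine ⟨C (-(a 0)⁻¹), ?_⟩
      have e : C (a 0) * C (a 0)⁻¹ = (1 : MvPolynomial (Fin 2) k) := by rw [← map_mul, mul_inv_cancel₀ hi, map_one]
      rw [h01, div_eq_mul_inv, map_mul]
      simp only [map_neg]
      linear_combination -(X 1 : MvPolynomial (Fin 2) k) * e
    · refine ⟨C (a 1)⁻¹, ?_⟩
      have e : C (a 1) * C (a 1)⁻¹ = (1 : MvPolynomial (Fin 2) k) := by rw [← map_mul, mul_inv_cancel₀ hi, map_one]
      rw [h01, div_eq_mul_inv, map_mul]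
      simp only [map_neg]
      linear_combination -(X 0 : MvPolynomial (Fin 2) k) * e
    · exact ⟨0, by simp [div_self hi]⟩
  have halg : (Ideal.Quotient.mkₐ k (Ideal.span {L})) =
      (Ideal.Quotient.mkₐ k (Ideal.span {L})).comp (aeval ψ) :=
    MvPolynomial.algHom_ext fun j => by simpa using hq j
  have := congrArg (fun f : MvPolynomial (Fin 2) k →ₐ[k] _ => f P) halg
  simp only [AlgHom.comp_apply, hP0, map_zero, Ideal.Quotient.mkₐ_eq_mk] at this
  exact Ideal.mem_span_singleton.1 (Ideal.Quotient.eq_zero_iff_mem.1 this)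

/-- Every binary form of positive degree has a linear factor. -/
theorem exists_linear_factor [IsAlgClosed k] {P : MvPolynomial (Fin 2) k} {d : ℕ} (hP : P.IsHomogeneous (d + 1))
    (hP0 : P ≠ 0) : ∃ l e : MvPolynomial (Fin 2) k, P = l * e ∧ l.IsHomogeneous 1 ∧ e.IsHomogeneous d ∧ e ≠ 0 := by
  have h0 : eval 0 P = 0 := by
    rw [← zero_smul k (0 : Fin 2 → k), eval_smul_of_isHomogeneous hP, zero_pow (by omega), zero_mul]
  obtain ⟨a, ha, hPa⟩ := exists_zero_binary P h0
  obtain ⟨e, he⟩ := dvd_of_eval_eq_zero hP ha hPa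
  have hl : linPoly (n := 1) ![a 1, -a 0] ≠ 0 := linPoly_ne_zero fun h => ha (_root_.funext fun i => by
    fin_cases i
    · simpa using congrFun h 1
    · simpa using congrFun h 0)
  obtain ⟨p, q, hpq, hlp, heq⟩ := isHomogeneous_of_mul (he ▸ hP) (he ▸ hP0)
  obtain rfl : p = 1 := hlp.inj_right (isHomogeneous_linPoly _) hl
  exact ⟨_, e, he, hlp, (show q = d by omega) ▸ heq, right_ne_zero_of_mul (he ▸ hP0)⟩

theorem finiteDimensional_binary (d : ℕ) : FiniteDimensional k ↥(homogeneousSubmodule (Fin 2) k d) :=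
  (formEquiv k 1 d).symm.finiteDimensional

theorem finrank_binary (d : ℕ) : Module.finrank k ↥(homogeneousSubmodule (Fin 2) k d) = d + 1 := by
  rw [show Module.finrank k ↥(homogeneousSubmodule (Fin 2) k d) = Module.finrank k (LefPen.Form 1 k d) from rfl,
    finrank_form, Nat.add_comm, Nat.choose_succ_self_right]

/-- The contraction `g ↦ φ(g ·)`. -/
noncomputable def contractBy (φ : MvPolynomial (Fin 2) k →ₗ[k] k) (a b : ℕ) :
    ↥(homogeneousSubmodule (Fin 2) k a) →ₗ[k] Module.Dual k ↥(homogeneousSubmodule (Fin 2) k b) :=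
  ((LinearMap.mul k (MvPolynomial (Fin 2) k)).compl₁₂ (Submodule.subtype _) (Submodule.subtype _)).compr₂ φ

theorem contractBy_apply (φ : MvPolynomial (Fin 2) k →ₗ[k] k) {a b : ℕ}
    (g : ↥(homogeneousSubmodule (Fin 2) k a)) (h : ↥(homogeneousSubmodule (Fin 2) k b)) :
    contractBy φ a b g h = φ (g.1 * h.1) := rfl

theorem exists_ker_contractBy (φ : MvPolynomial (Fin 2) k →ₗ[k] k) :
    ∃ g ∈ homogeneousSubmodule (Fin 2) k 3, g ≠ 0 ∧ ∀ h ∈ homogeneousSubmodule (Fin 2) k 2, φ (g * h) = 0 := by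
  have : FiniteDimensional k ↥(homogeneousSubmodule (Fin 2) k 3) := finiteDimensional_binary 3
  have : FiniteDimensional k ↥(homogeneousSubmodule (Fin 2) k 2) := finiteDimensional_binary 2
  have h := LinearMap.ker_ne_bot_of_finrank_lt (f := contractBy φ 3 2)
    (by rw [Subspace.dual_finrank_eq, finrank_binary, finrank_binary]; omega)
  obtain ⟨g, hg, hg0⟩ := Submodule.exists_mem_ne_zero_of_ne_bot h
  exact ⟨g.1, g.2, fun h0 => hg0 (Subtype.ext h0), fun h hh => LinearMap.congr_fun hg ⟨h, hh⟩⟩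

end Groth.Agent.Incid42
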