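import Groth.Agent.Incid42.Codim
import Groth.Agent.Incid42.Elim
import Mathlib.RingTheory.GradedAlgebra.Radical
import Mathlib.Algebra.Module.Submodule.Union
import Mathlib.RingTheory.AlgebraicIndependent.TranscendenceBasis

/-!
# Systems of forms with too large a zero locus

The tuples of forms of degrees `1, …, j` whose zero locus in affine `(m + 1)`-space has dimension at
least `m + 2 - j` form a closed set of codimension greater than `m`.
-/

set_option autoImplicit false

universe u

open LefPen MvPolynomial Order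

namespace Groth.Agent.Incid42

variable {k : Type u} [Field k]
variable {n : ℕ}

/-- The dimension of the zero locus of a prime. -/
noncomputable def pdim (P : PrimeSpectrum (MvPolynomial (Fin n) k)) : ℕ := DimFormula.fd k P.asIdeal

theorem height_add_pdim (P : PrimeSpectrum (MvPolynomial (Fin n) k)) :
    height P + (pdim P : ℕ∞) = n := by
  have h3 : height (PrimeSpectrum.comap (algebraMap k (MvPolynomial (Fin n) k)) P) = 0 :=
    height_eq_zero.2 fun q _ => le_of_eq (Subsingleton.elim _ _)
  have h2 := DimFormula.height_add_fd_mvPolynomial k P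
  rwa [h3, zero_add] at h2

theorem coheight_eq_pdim (P : PrimeSpectrum (MvPolynomial (Fin n) k)) : coheight P = (pdim P : ℕ∞) := by
  have hd : ringKrullDim (MvPolynomial (Fin n) k) = n := by
    rw [MvPolynomial.ringKrullDim_of_isNoetherianRing, ringKrullDim_eq_zero_of_field, zero_add,
      Nat.card_fin]
  exact WithTop.add_left_cancel (DimFormula.height_ne_top P)
    ((VarDim.height_add_coheight_eq k n _ hd P).trans (height_add_pdim P).symm)

theorem pdim_lt {P Q : PrimeSpectrum (MvPolynomial (Fin n) k)} (h : P < Q) : pdim Q < pdim P := by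
  have h1 := height_strictMono h (DimFormula.height_ne_top P).lt_top
  obtain ⟨a, ha⟩ := ENat.ne_top_iff_exists.1 (DimFormula.height_ne_top P)
  obtain ⟨b, hb⟩ := ENat.ne_top_iff_exists.1 (DimFormula.height_ne_top Q)
  have e1 := height_add_pdim P
  have e2 := height_add_pdim Q
  rw [← ha] at e1 h1
  rw [← hb] at e2 h1
  norm_cast at e1 e2 h1
  omega

theorem pdim_le {P Q : PrimeSpectrum (MvPolynomial (Fin n) k)} (h : P ≤ Q) : pdim Q ≤ pdim P := by
  rcases h.eq_or_lt with rfl | h
  exacts [le_rfl, (pdim_lt h).le]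

theorem pdim_le_card (P : PrimeSpectrum (MvPolynomial (Fin n) k)) : pdim P ≤ n := by
  have h : (pdim P : ℕ∞) ≤ n := (height_add_pdim P) ▸ le_add_self
  exact_mod_cast h

theorem sub_C_eval_zero_mem {P : Ideal (MvPolynomial (Fin n) k)} (hX : ∀ i, (X i : MvPolynomial (Fin n) k) ∈ P)
    (p : MvPolynomial (Fin n) k) : p - C (eval 0 p) ∈ P := by
  induction p using MvPolynomial.induction_on with
  | C a => simp
  | add p q hp hq =>
    have := P.add_mem hp hq
    rwa [sub_add_sub_comm, ← map_add C, ← map_add] at this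
  | mul_X p i hp => simpa using P.mul_mem_left p (hX i)

theorem pdim_eq_zero_of_X_mem (P : PrimeSpectrum (MvPolynomial (Fin n) k))
    (hX : ∀ i, (X i : MvPolynomial (Fin n) k) ∈ P.asIdeal) : pdim P = 0 := by
  have h : IsMax P := fun Q hPQ f hf => by
    have h1 := sub_C_eval_zero_mem hX f
    have h2 : C (eval 0 f) ∈ Q.asIdeal := by
      simpa using Q.asIdeal.sub_mem hf (hPQ h1)
    by_cases h0 : eval 0 f = 0
    · rw [h0, map_zero, sub_zero] at h1
      exact h1
    · exact absurd (Ideal.eq_top_of_isUnit_mem _ h2 ((Ne.isUnit h0).map C)) Q.2.ne_top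
  have := coheight_eq_pdim P
  rw [coheight_eq_zero.2 h] at this
  exact_mod_cast this.symm

theorem exists_prime_of_line (x : Fin n → k) (hx : x ≠ 0) [Infinite k] :
    ∃ P : PrimeSpectrum (MvPolynomial (Fin n) k), 1 ≤ pdim P ∧
      ∀ (G : MvPolynomial (Fin n) k) (d : ℕ), G.IsHomogeneous d → eval x G = 0 → G ∈ P.asIdeal := by
  let φ : MvPolynomial (Fin n) k →ₐ[k] Polynomial k := aeval fun i => Polynomial.C (x i) * Polynomial.X
  have hφ : ∀ (G : MvPolynomial (Fin n) k) (s : k), (φ G).eval s = eval (s • x) G := fun G s => by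
    induction G using MvPolynomial.induction_on with
    | C a => simp [φ]
    | add p q hp hq => simp [map_add, hp, hq]
    | mul_X p i hp =>
      rw [map_mul, Polynomial.eval_mul, hp, map_mul]
      simp [φ, mul_comm s]
  let P : PrimeSpectrum (MvPolynomial (Fin n) k) := ⟨RingHom.ker φ.toRingHom, RingHom.ker_isPrime _⟩
  have hPp : P.asIdeal.IsPrime := P.2
  refine ⟨P, ?_, fun G d hG h0 => ?_⟩
  · obtain ⟨i, hi⟩ := Function.ne_iff.1 hx
    refine (DimFormula.le_fd_iff k P.asIdeal 1).2 ⟨fun _ => X i, fun G hG => ?_⟩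
    suffices G = 0 by rw [this]; exact zero_mem _
    refine MvPolynomial.funext fun a => ?_
    have h1 : φ (aeval (fun _ : Fin 1 => (X i : MvPolynomial (Fin n) k)) G) = 0 := hG
    have h2 := congrArg (Polynomial.eval (a 0 / x i)) h1
    rw [hφ, eval_aeval, Polynomial.eval_zero] at h2
    rw [map_zero]
    rw [show (fun _ : Fin 1 => eval ((a 0 / x i) • x) (X i : MvPolynomial (Fin n) k)) = a from
      _root_.funext fun t => by
        rw [eval_X, Pi.smul_apply, smul_eq_mul, div_mul_cancel₀ _ (by simpa using hi), Subsingleton.elim t 0]] at h2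
    exact h2
  · show φ G = 0
    refine Polynomial.funext fun s => ?_
    rw [hφ, eval_smul_of_isHomogeneous hG, h0, mul_zero, Polynomial.eval_zero]

/-- The linear form with given coefficients. -/
noncomputable def linComb : (Fin n → k) →ₗ[k] MvPolynomial (Fin n) k := Fintype.linearCombination k fun i => X i

theorem linComb_apply (c : Fin n → k) : linComb c = ∑ i, C (c i) * X i := by
  simp [linComb, Fintype.linearCombination_apply, C_mul']

theorem eval_linComb (c x : Fin n → k) : eval x (linComb c) = ∑ i, c i * x i := by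
  simp [linComb_apply]

theorem isHomogeneous_linComb (c : Fin n → k) : (linComb c).IsHomogeneous 1 := by
  rw [linComb_apply]
  exact IsHomogeneous.sum _ _ _ fun _ _ => (isHomogeneous_X _ _).C_mul _

/-- Cutting down by linear forms. -/
theorem exists_linear_cut [Infinite k] : ∀ (b : ℕ) (J : Ideal (MvPolynomial (Fin n) k)),
    (∀ P : PrimeSpectrum (MvPolynomial (Fin n) k), J ≤ P.asIdeal → pdim P ≤ b) →
    ∃ c : Fin b → Fin n → k, ∀ P : PrimeSpectrum (MvPolynomial (Fin n) k), J ≤ P.asIdeal →
      (∀ i, linComb (c i) ∈ P.asIdeal) → pdim P = 0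
  | 0, J, h => ⟨Fin.elim0, fun P hP _ => Nat.le_zero.1 (h P hP)⟩
  | b + 1, J, h => by
    classical
    let S := {p // p ∈ J.minimalPrimes ∧ ∃ i, (X i : MvPolynomial (Fin n) k) ∉ p}
    have : Finite S := (J.finite_minimalPrimes_of_isNoetherianRing.subset fun p hp => hp.1).to_subtype
    let W : S → Submodule k (Fin n → k) := fun p => (p.1.restrictScalars k).comap linComb
    obtain ⟨c₀, hc₀⟩ := Submodule.exists_forall_notMem_of_forall_ne_top W fun p hW => by
      obtain ⟨i, hi⟩ := p.2.2
      refine hi ?_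
      have : Pi.single i (1 : k) ∈ W p := hW ▸ trivial
      have : linComb (Pi.single i (1 : k)) ∈ p.1 := this
      simpa [linComb] using this
    have hb : ∀ P : PrimeSpectrum (MvPolynomial (Fin n) k),
        J ⊔ Ideal.span {linComb c₀} ≤ P.asIdeal → pdim P ≤ b := fun P hP => by
      obtain ⟨p, hp, hpP⟩ := Ideal.exists_minimalPrimes_le (le_sup_left.trans hP)
      let Q : PrimeSpectrum (MvPolynomial (Fin n) k) := ⟨p, hp.isPrime⟩
      have hQ : Q ≤ P := hpP
      by_cases hX : ∀ i, (X i : MvPolynomial (Fin n) k) ∈ p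
      · rw [pdim_eq_zero_of_X_mem P fun i => hpP (hX i)]
        exact Nat.zero_le _
      · push Not at hX
        have hne : Q ≠ P := fun e => hc₀ ⟨p, hp, hX⟩ (show linComb c₀ ∈ p from
          (congrArg PrimeSpectrum.asIdeal e).symm.le (hP (Ideal.mem_sup_right (Ideal.mem_span_singleton_self _))))
        have := pdim_lt (lt_of_le_of_ne hQ hne)
        have := h Q hp.le
        omega
    obtain ⟨c, hc⟩ := exists_linear_cut b _ hb
    refine ⟨Fin.cons c₀ c, fun P hP hl => hc P (sup_le hP ?_) fun i => by simpa using hl i.succ⟩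
    exact (Ideal.span_singleton_le_iff_mem _).2 (by simpa using hl 0)

theorem exists_nonzero_zero [IsAlgClosed k] {T : Type*} (G : T → MvPolynomial (Fin n) k) (e : T → ℕ)
    (hG : ∀ t, (G t).IsHomogeneous (e t)) (P : PrimeSpectrum (MvPolynomial (Fin n) k))
    (hP : ∀ t, G t ∈ P.asIdeal) {b : ℕ} (hb : b + 1 ≤ pdim P) (c : Fin b → Fin n → k) :
    ∃ x : Fin n → k, x ≠ 0 ∧ (∀ t, eval x (G t) = 0) ∧ ∀ i, ∑ a, c i a * x a = 0 := by
  classical
  letI := MvPolynomial.gradedAlgebra (R := k) (σ := Fin n)
  let core := P.asIdeal.homogeneousCore (homogeneousSubmodule (Fin n) k)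
  haveI hQp : core.toIdeal.IsPrime := Ideal.IsPrime.homogeneousCore P.2
  let Q : PrimeSpectrum (MvPolynomial (Fin n) k) := ⟨core.toIdeal, hQp⟩
  have hQP : Q ≤ P := Ideal.toIdeal_homogeneousCore_le _ _
  have hGQ : ∀ t, G t ∈ Q.asIdeal := fun t =>
    Ideal.mem_homogeneousCore_of_homogeneous_of_mem ⟨e t, (mem_homogeneousSubmodule _ _).2 (hG t)⟩ (hP t)
  have hQdim : b + 1 ≤ pdim Q := hb.trans (pdim_le hQP)
  have hQ0 : ∀ f ∈ Q.asIdeal, eval (0 : Fin n → k) f = 0 := fun f hf => by
    by_contra h0
    have h1 : homogeneousComponent 0 f ∈ Q.asIdeal := by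
      have := core.isHomogeneous 0 hf
      rwa [show ((DirectSum.decompose (homogeneousSubmodule (Fin n) k) f) 0 : MvPolynomial (Fin n) k) =
        homogeneousComponent 0 f from decomposition.decompose'_apply f 0] at this
    rw [homogeneousComponent_zero] at h1
    refine hQp.ne_top (Ideal.eq_top_of_isUnit_mem _ h1 (IsUnit.map C (Ne.isUnit ?_)))
    rwa [← constantCoeff_eq, ← eval_zero]
  by_contra! hno
  let A := MvPolynomial (Fin n) k ⧸ Q.asIdeal
  let π : MvPolynomial (Fin n) k →+* A := Ideal.Quotient.mk _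
  have hπ : Function.Surjective π := Ideal.Quotient.mk_surjective
  let M : Ideal (MvPolynomial (Fin n) k) := RingHom.ker (eval (0 : Fin n → k))
  have hMmax : M.IsMaximal := RingHom.ker_isMaximal_of_surjective _ fun a => ⟨C a, eval_C a⟩
  have hQM : Q.asIdeal ≤ M := hQ0
  let mA : Ideal A := M.map π
  haveI hmAmax : mA.IsMaximal := by
    refine (Ideal.map_eq_top_or_isMaximal_of_surjective π hπ hMmax).resolve_left fun h => hMmax.ne_top ?_
    have := congrArg (Ideal.comap π) h
    rwa [Ideal.comap_map_of_surjective π hπ, ← RingHom.ker_eq_comap_bot, Ideal.mk_ker, sup_eq_left.2 hQM,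
      Ideal.comap_top] at this
  let s : Set A := Set.range fun i => π (linComb (c i))
  have hmin : mA ∈ (Ideal.span s).minimalPrimes := by
    refine ⟨⟨hmAmax.isPrime, Ideal.span_le.2 ?_⟩, fun q hq hqm => ?_⟩
    · rintro _ ⟨i, rfl⟩
      refine Ideal.mem_map_of_mem π ?_
      show eval 0 (linComb (c i)) = 0
      rw [eval_linComb]
      simp
    · have hJ : Q.asIdeal ⊔ Ideal.span (Set.range fun i => linComb (c i)) ≤ q.comap π := by
        refine sup_le (fun f hf => ?_) (Ideal.span_le.2 ?_)
        · show π f ∈ q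
          rw [Ideal.Quotient.eq_zero_iff_mem.2 hf]
          exact zero_mem _
        · rintro _ ⟨i, rfl⟩
          exact hq.2 (Ideal.subset_span ⟨i, rfl⟩)
      haveI := hq.1
      have hrad : M ≤ q.comap π := by
        refine le_trans ?_ ((Ideal.IsPrime.radical_le_iff (hq.1.comap π)).2 hJ)
        intro f hf
        rw [← vanishingIdeal_zeroLocus_eq_radical (K := k), mem_vanishingIdeal_iff]
        intro x hx
        have hx0 : x = 0 := by
          by_contra hx0
          obtain ⟨i, hi⟩ := hno x hx0 fun t => by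
            simpa using hx (G t) (Ideal.mem_sup_left (hGQ t))
          refine hi ?_
          rw [← eval_linComb]
          simpa using hx _ (Ideal.mem_sup_right (Ideal.subset_span ⟨i, rfl⟩))
        rw [hx0, aeval_eq_eval]
        exact hf
      exact Ideal.map_le_of_le_comap hrad
  have hht : mA.height ≤ (b : ℕ∞) := by
    refine (Ideal.height_le_card_of_mem_minimalPrimes_span (Set.finite_range _) hmin).trans ?_
    have hle : s.ncard ≤ b := by
      show (Set.range _).ncard ≤ b
      rw [← Set.image_univ]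
      exact (Set.ncard_image_le (Set.finite_univ)).trans (by simp [Set.ncard_univ])
    exact_mod_cast hle
  have hdimA : ringKrullDim A = (pdim Q : ℕ) := by
    rw [← VarDim.coheight_eq_ringKrullDim_quotient, coheight_eq_pdim]
    rfl
  have h := VarDim.height_add_coheight_eq k (pdim Q) A hdimA ⟨mA, hmAmax.isPrime⟩
  have hcoh : coheight (⟨mA, hmAmax.isPrime⟩ : PrimeSpectrum A) = 0 :=
    coheight_eq_zero.2 fun q hq => (hmAmax.eq_of_le q.2.ne_top hq).ge
  rw [hcoh, add_zero, ← PrimeSpectrum.height_eq_orderHeight] at h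
  rw [h] at hht
  have := WithTop.coe_le_coe.1 hht
  omega

section Tuples

variable {m j : ℕ}

/-- The tuples with a zero locus of dimension at least `b + 1`. -/
def bigLocus (k : Type u) [Field k] (m j b : ℕ) : Set ((i : Fin j) → Form m k (i.1 + 1)) :=
  {G | ∃ P : PrimeSpectrum (MvPolynomial (Fin (m + 1)) k), (∀ i, (G i).1 ∈ P.asIdeal) ∧ b + 1 ≤ pdim P}

theorem mem_bigLocus_iff [IsAlgClosed k] {b : ℕ} (G : (i : Fin j) → Form m k (i.1 + 1)) :
    G ∈ bigLocus k m j b ↔ ∀ c : Fin b → Fin (m + 1) → k,
      ∃ x, x ≠ 0 ∧ (∀ i, eval x (G i).1 = 0) ∧ ∀ i, ∑ a, c i a * x a = 0 := by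
  constructor
  · rintro ⟨P, hP, hb⟩ c
    exact exists_nonzero_zero (fun i => (G i).1) _ (fun i => (mem_homogeneousSubmodule _ _).1 (G i).2) P hP hb c
  · intro h
    by_contra hno
    simp only [bigLocus, Set.mem_setOf_eq, not_exists, not_and, not_le] at hno
    obtain ⟨c, hc⟩ := exists_linear_cut b (Ideal.span (Set.range fun i => (G i).1)) fun P hP =>
      Nat.le_of_lt_succ (hno P fun i => hP (Ideal.subset_span ⟨i, rfl⟩))
    obtain ⟨x, hx, hxG, hxl⟩ := h c
    obtain ⟨P, hP1, hP⟩ := exists_prime_of_line x hx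
    have := hc P (Ideal.span_le.2 (by
        rintro _ ⟨i, rfl⟩
        exact hP _ _ ((mem_homogeneousSubmodule _ _).1 (G i).2) (hxG i)))
      fun i => hP _ 1 (isHomogeneous_linComb (c i)) (by rw [eval_linComb]; exact hxl i)
    omega

theorem isZOpen_compl_bigLocus [IsAlgClosed k] (b : ℕ) : IsZOpen k (bigLocus k m j b)ᶜ := by
  intro G hG
  rw [Set.mem_compl_iff, mem_bigLocus_iff] at hG
  push Not at hG
  obtain ⟨c, hc⟩ := hG
  let F : Fin j ⊕ Fin b → ((i : Fin j) → Form m k (i.1 + 1)) → MvPolynomial (Fin (m + 1)) k :=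
    Sum.elim (fun i H => (H i).1) (fun i _ => linComb (c i))
  have hopen := isZOpen_noCommonZero F (Sum.elim (fun i => i.1 + 1) fun _ => 1) (fun t H => by
    cases t with
    | inl i => exact (mem_homogeneousSubmodule _ _).1 (H i).2
    | inr i => exact isHomogeneous_linComb (c i)) (fun t => by
    cases t with
    | inl i =>
      exact fun e => isPolyFun_linear ((lcoeff k e).comp
        ((Submodule.subtype (CohB1.polyGrading m k (i.1 + 1))).comp
          (LinearMap.proj (R := k) (φ := fun i : Fin j => ↥(CohB1.polyGrading m k (i.1 + 1))) i)))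
    | inr i => exact isPolyFamily_const _)
  obtain ⟨f, hf, hfG, hfsub⟩ := hopen G (fun x hx => by
    by_contra hx0
    obtain ⟨i, hi⟩ := hc x hx0 fun i => hx (Sum.inl i)
    exact hi ((eval_linComb (c i) x).symm.trans (hx (Sum.inr i))))
  refine ⟨f, hf, hfG, fun H hH hmem => ?_⟩
  obtain ⟨x, hx0, hxG, hxl⟩ := (mem_bigLocus_iff H).1 hmem c
  refine hx0 (hfsub H hH x fun t => ?_)
  cases t with
  | inl i => exact hxG i
  | inr i => exact (eval_linComb (c i) x).trans (hxl i)

/-- Monomials in variables independent modulo a prime are independent modulo it. -/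
theorem finrank_quotient_prime_ge [IsAlgClosed k] (P : PrimeSpectrum (MvPolynomial (Fin (m + 1)) k)) (e d : ℕ)
    (he : e + 1 ≤ pdim P) :
    Nat.choose (e + d) d ≤
      Module.finrank k (Form m k d ⧸ (P.asIdeal.restrictScalars k).comap (Submodule.subtype (CohB1.polyGrading m k d))) := by
  classical
  let A := MvPolynomial (Fin (m + 1)) k ⧸ P.asIdeal
  let π : MvPolynomial (Fin (m + 1)) k →ₐ[k] A := Ideal.Quotient.mkₐ k _
  let gens : Set A := Set.range fun i => π (X i)
  have : Algebra.IsAlgebraic (Algebra.adjoin k gens) A := ⟨fun a => by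
    obtain ⟨p, rfl⟩ := Ideal.Quotient.mk_surjective a
    have hp : π p ∈ Algebra.adjoin k gens := by
      rw [show gens = π '' Set.range (X : Fin (m + 1) → MvPolynomial (Fin (m + 1)) k) from
        (Set.range_comp π X), Algebra.adjoin_image, MvPolynomial.adjoin_range_X]
      exact ⟨p, trivial, rfl⟩
    exact isAlgebraic_algebraMap (R := Algebra.adjoin k gens) (⟨π p, hp⟩ : Algebra.adjoin k gens)⟩
  obtain ⟨t, hts, ht⟩ := exists_isTranscendenceBasis_subset (R := k) gens
  obtain ⟨n', hdim, htr⟩ := VarDim.exists_dim_eq_trdeg k A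
  have hn' : n' = pdim P := by
    rw [← VarDim.coheight_eq_ringKrullDim_quotient, coheight_eq_pdim] at hdim
    exact (WithTop.coe_eq_coe.1 (WithBot.coe_inj.1 hdim)).symm
  have htfin : t.Finite := (Set.finite_range _).subset hts
  have hcard : htfin.toFinset.card = n' := by
    have h := ht.cardinalMk_eq_trdeg
    haveI := htfin.fintype
    rw [htr, Cardinal.mk_fintype, ← Set.toFinset_card] at h
    rw [htfin.toFinset_eq_toFinset]
    exact_mod_cast h
  obtain ⟨φ⟩ : Nonempty (Fin (e + 1) ↪ ↥htfin.toFinset) :=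
    Function.Embedding.nonempty_of_card_le (by simp; omega)
  choose ι hι using fun a : Fin (e + 1) => hts (htfin.mem_toFinset.1 (φ a).2)
  have hind : AlgebraicIndependent k fun a => π (X (ι a)) := by
    have := ht.1.comp (fun a : Fin (e + 1) => (⟨(φ a).1, htfin.mem_toFinset.1 (φ a).2⟩ : t))
      (fun a b h => φ.injective (Subtype.ext (Subtype.ext_iff.1 h :)))
    convert this using 1
    funext a
    exact hι a
  let rn : Form e k d →ₗ[k] Form m k d :=
    LinearMap.codRestrict _ ((rename ι).toLinearMap.comp (Submodule.subtype (CohB1.polyGrading e k d))) fun G =>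
      (mem_homogeneousSubmodule _ _).2 ((mem_homogeneousSubmodule _ _).1 G.2).rename_isHomogeneous
  let U := (P.asIdeal.restrictScalars k).comap (Submodule.subtype (CohB1.polyGrading m k d))
  rw [← finrank_form (k := k) e d]
  refine LinearMap.finrank_le_finrank_of_injective (f := U.mkQ.comp rn) ?_
  rw [← LinearMap.ker_eq_bot, LinearMap.ker_eq_bot']
  intro G hG
  have h1 : rename ι G.1 ∈ P.asIdeal := (Submodule.Quotient.mk_eq_zero U).1 hG
  refine Subtype.ext (hind.eq_zero_of_aeval_eq_zero _ ?_)
  have h2 : π (rename ι G.1) = 0 := Ideal.Quotient.eq_zero_iff_mem.2 h1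
  rw [← h2]
  conv_rhs => rw [aeval_unique π, aeval_rename]
  rfl

theorem le_choose_self : ∀ (a b : ℕ), 1 ≤ a → 1 ≤ b → a + b ≤ Nat.choose (a + b) b
  | a, 1, _, _ => by simp
  | a, b + 2, ha, _ => by
    have h1 := le_choose_self a (b + 1) ha (by omega)
    have h2 : 1 ≤ Nat.choose (a + (b + 1)) (b + 2) := Nat.choose_pos (by omega)
    have h3 : Nat.choose (a + (b + 2)) (b + 2) =
        Nat.choose (a + (b + 1)) (b + 1) + Nat.choose (a + (b + 1)) (b + 2) := Nat.choose_succ_succ _ _
    omega

/-- Separating the last form of a tuple. -/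
noncomputable def splitLast (k : Type u) [Field k] (m j : ℕ) :
    ((i : Fin (j + 1)) → Form m k (i.1 + 1)) ≃ₗ[k] ((i : Fin j) → Form m k (i.1 + 1)) × Form m k (j + 1) where
  toFun G := (fun i => G i.castSucc, G (Fin.last j))
  map_add' _ _ := rfl
  map_smul' _ _ := rfl
  invFun p := Fin.snoc (α := fun i : Fin (j + 1) => Form m k (i.1 + 1)) p.1 p.2
  left_inv G := by
    funext i
    induction i using Fin.lastCases with
    | last => simp
    | cast i => simp
  right_inv p := by
    refine Prod.ext (funext fun i => ?_) ?_ <;> simp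

/-- **The tuples of degrees `1, …, j` with too large a zero locus have codimension more than `m`.** -/
theorem codimGE_bigLocus [IsAlgClosed k] : ∀ j, j ≤ m →
    CodimGE k (bigLocus k m j (m + 1 - j)) (m + 1)
  | 0, _ => by
    refine codimGE_mono (fun G hG => ?_) (codimGE_empty _)
    obtain ⟨P, -, hP⟩ := hG
    have := pdim_le_card P
    omega
  | j + 1, hj => by
    classical
    let L := splitLast k m j
    let Z : Set (((i : Fin j) → Form m k (i.1 + 1)) × Form m k (j + 1)) :=
      L.symm ⁻¹' bigLocus k m (j + 1) (m + 1 - (j + 1))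
    have hZ : IsZOpen k Zᶜ := fun p hp => by
      obtain ⟨f, hf, hfp, hsub⟩ := isZOpen_compl_bigLocus (k := k) (m := m) (j := j + 1) _ (L.symm p) hp
      exact ⟨fun q => f (L.symm q), isPolyFun_comp hf (isPolyMap_linear L.symm.toLinearMap), hfp,
        fun q hq => hsub _ hq⟩
    have key : CodimGE k Z (m + 1) := by
      refine codimGE_of_fibres hZ (bigLocus k m j (m + 1 - j)) (codimGE_bigLocus j (by omega)) fun G' hG' => ?_
      let I := Ideal.span (Set.range fun i => (G' i).1)
      let S : Set (Ideal (MvPolynomial (Fin (m + 1)) k)) :=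
        {p | ∃ hp : p ∈ I.minimalPrimes, m + 1 - (j + 1) + 1 ≤ pdim ⟨p, hp.isPrime⟩}
      have hS : S.Finite := I.finite_minimalPrimes_of_isNoetherianRing.subset fun p hp => hp.1
      let U : Ideal (MvPolynomial (Fin (m + 1)) k) → Submodule k (Form m k (j + 1)) := fun p =>
        (p.restrictScalars k).comap (Submodule.subtype _)
      refine codimGE_mono (E := ⋃ p ∈ hS.toFinset, (U p : Set (Form m k (j + 1)))) (fun G hG => ?_) ?_
      · obtain ⟨P, hP, hdim⟩ := hG
        have hPi : ∀ i, (G' i).1 ∈ P.asIdeal := fun i => by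
          have := hP i.castSucc
          simpa [L, splitLast] using this
        have hPG : G.1 ∈ P.asIdeal := by
          have := hP (Fin.last j)
          simpa [L, splitLast] using this
        obtain ⟨p, hp, hpP⟩ := Ideal.exists_minimalPrimes_le (I := I) (J := P.asIdeal)
          (Ideal.span_le.2 (by rintro _ ⟨i, rfl⟩; exact hPi i))
        let Q : PrimeSpectrum (MvPolynomial (Fin (m + 1)) k) := ⟨p, hp.isPrime⟩
        have hQP : Q ≤ P := hpP
        have hQ : pdim Q ≤ m + 1 - j := by
          by_contra h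
          exact hG' ⟨Q, fun i => hp.le (Ideal.subset_span ⟨i, rfl⟩), by omega⟩
        have hQ' := pdim_le hQP
        have heq : Q = P := by
          by_contra hne
          have := pdim_lt (lt_of_le_of_ne hQP hne)
          omega
        refine Set.mem_iUnion₂.2 ⟨p, hS.mem_toFinset.2 ⟨hp, hdim.trans hQ'⟩, ?_⟩
        show G.1 ∈ p
        rwa [show p = P.asIdeal from congrArg PrimeSpectrum.asIdeal heq]
      · refine codimGE_biUnion _ _ fun p hp => ?_
        obtain ⟨hp, hdim⟩ := hS.mem_toFinset.1 hp
        refine le_trans ?_ (codimGE_submodule (U p))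
        have h1 := finrank_quotient_prime_ge ⟨p, hp.isPrime⟩ (m - j) (j + 1) (by omega)
        have h2 : m + 1 ≤ Nat.choose (m - j + (j + 1)) (j + 1) := by
          have := le_choose_self (m - j) (j + 1) (by omega) (by omega)
          omega
        exact_mod_cast h2.trans h1
    exact codimGE_mono (fun G hG => by simpa [Z] using hG) (codimGE_linearEquiv L Z key)

end Tuples

end Groth.Agent.Incid42
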