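import Groth.Agent.Incid42.FibreCodim
import Groth.Agent.Incid42.Poly
import Groth.Prelude.Def_W4c2ratcurvhypCodim

/-!
# `LefPen.CodimGE`: linear changes, fibrations, projections
-/

set_option autoImplicit false

universe u

open LefPen MvPolynomial

namespace Groth.Agent.Incid42

variable {k : Type u} [Field k]
variable {V W : Type u} [AddCommGroup V] [Module k V] [AddCommGroup W] [Module k W]

theorem vanishingFun_anti {D E : Set V} (h : D ⊆ E) : vanishingFun k E ≤ vanishingFun k D :=
  fun _ hf v hv => hf v (h hv)

theorem codimGE_mono {D E : Set V} {c : ℕ} (h : D ⊆ E) (hE : CodimGE k E c) : CodimGE k D c :=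
  hE.trans (Ideal.height_mono (vanishingFun_anti h))

theorem codimGE_empty (c : ℕ) : CodimGE k (∅ : Set V) c := by
  have h : vanishingFun k (∅ : Set V) = ⊤ := Ideal.eq_top_iff_one _ |>.2 fun v hv => absurd hv (Set.notMem_empty v)
  show (c : ℕ∞) ≤ _
  rw [h, Ideal.height_top]
  exact le_top

theorem codimGE_union {D E : Set V} {c : ℕ} (hD : CodimGE k D c) (hE : CodimGE k E c) : CodimGE k (D ∪ E) c := by
  refine (le_height_iff _ _).2 fun P hP => ?_
  have h : vanishingFun k D * vanishingFun k E ≤ P.asIdeal := by
    refine Ideal.mul_le_inf.trans (le_trans ?_ hP)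
    rintro f ⟨h1, h2⟩ v (hv | hv)
    exacts [h1 v hv, h2 v hv]
  rcases P.2.mul_le.1 h with h | h
  exacts [(le_height_iff _ _).1 hD P h, (le_height_iff _ _).1 hE P h]

theorem codimGE_biUnion {ι : Type*} (s : Finset ι) (D : ι → Set V) {c : ℕ} (h : ∀ i ∈ s, CodimGE k (D i) c) :
    CodimGE k (⋃ i ∈ s, D i) c := by
  classical
  induction s using Finset.induction_on with
  | empty => simpa using codimGE_empty c
  | insert i s _ ih =>
    rw [Finset.set_biUnion_insert]
    exact codimGE_union (h i (Finset.mem_insert_self i s)) (ih fun j hj => h j (Finset.mem_insert_of_mem hj))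

/-- The Zariski closure. -/
def zClosure (k : Type u) [Field k] {V : Type u} [AddCommGroup V] [Module k V] (D : Set V) : Set V :=
  {v | ∀ f ∈ vanishingFun k D, f.1 v = 0}

theorem subset_zClosure (D : Set V) : D ⊆ zClosure k D := fun v hv _ hf => hf v hv

theorem codimGE_zClosure {D : Set V} {c : ℕ} (h : CodimGE k D c) : CodimGE k (zClosure k D) c :=
  h.trans (Ideal.height_mono fun _ hf _ hv => hv _ hf)

theorem isZOpen_compl_zClosure (D : Set V) : IsZOpen k (zClosure k D)ᶜ := by
  intro v hv
  simp only [zClosure, Set.mem_compl_iff, Set.mem_setOf_eq, not_forall] at hv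
  obtain ⟨f, hf, hfv⟩ := hv
  exact ⟨f.1, f.2, hfv, fun w hw h => hw (h f hf)⟩

section Coordinates

variable {n : ℕ}

/-- Polynomials as polynomial functions. -/
noncomputable def toFunAlg (b : Module.Basis (Fin n) k V) : MvPolynomial (Fin n) k →ₐ[k] ↥(polyFunAlg k V) :=
  aeval fun i => ⟨fun v => b.coord i v, Algebra.subset_adjoin ⟨b.coord i, rfl⟩⟩

theorem toFunAlg_apply (b : Module.Basis (Fin n) k V) (p : MvPolynomial (Fin n) k) (v : V) :
    (toFunAlg b p).1 v = eval (fun i => b.repr v i) p := by
  induction p using MvPolynomial.induction_on with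
  | C a => simp [toFunAlg]
  | add p q hp hq => simp [map_add, ← hp, ← hq]
  | mul_X p i hp => simp [map_mul, ← hp, toFunAlg]

theorem toFunAlg_bijective [Infinite k] (b : Module.Basis (Fin n) k V) : Function.Bijective (toFunAlg b) := by
  refine ⟨(injective_iff_map_eq_zero _).2 fun p hp => MvPolynomial.funext fun x => ?_, fun f => ?_⟩
  · have := congrArg (fun g : ↥(polyFunAlg k V) => g.1 (b.equivFun.symm x)) hp
    simp only [toFunAlg_apply] at this
    rw [show (fun i => b.repr (b.equivFun.symm x) i) = x from b.equivFun.apply_symm_apply x] at this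
    simpa using this
  · obtain ⟨p, hp⟩ := exists_eval_eq b (f := f.1) f.2
    exact ⟨p, Subtype.ext (_root_.funext fun v => by rw [toFunAlg_apply, hp])⟩

theorem codimGE_iff [Infinite k] (b : Module.Basis (Fin n) k V) (D : Set V) (c : ℕ) :
    CodimGE k D c ↔ (c : ℕ∞) ≤ (vanishingIdeal k ((fun v => (fun i => b.repr v i)) '' D)).height := by
  let e : MvPolynomial (Fin n) k ≃+* ↥(polyFunAlg k V) :=
    RingEquiv.ofBijective (toFunAlg b).toRingHom (toFunAlg_bijective b)
  have h : (vanishingFun k D).comap e = vanishingIdeal k ((fun v => (fun i => b.repr v i)) '' D) := by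
    ext p
    constructor
    · rintro hp _ ⟨v, hv, rfl⟩
      rw [aeval_eq_eval, ← toFunAlg_apply]
      exact hp v hv
    · intro hp v hv
      show (toFunAlg b p).1 v = 0
      rw [toFunAlg_apply, ← aeval_eq_eval]
      exact hp _ ⟨v, hv, rfl⟩
  rw [← h, e.height_comap]
  exact Iff.rfl

theorem codimGE_linearEquiv [Infinite k] [FiniteDimensional k V] (L : V ≃ₗ[k] W) (D : Set W) {c : ℕ}
    (h : CodimGE k D c) : CodimGE k (L ⁻¹' D) c := by
  let b := Module.finBasis k V
  rw [codimGE_iff (b.map L)] at h
  rw [codimGE_iff b]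
  refine h.trans (Ideal.height_mono (vanishingIdeal_anti_mono ?_))
  rintro _ ⟨v, hv, rfl⟩
  exact ⟨L v, hv, _root_.funext fun i => by simp⟩

/-- The origin has full codimension. -/
theorem codimGE_singleton_zero [Infinite k] (b : Module.Basis (Fin n) k V) : CodimGE k ({0} : Set V) n := by
  rw [codimGE_iff b]
  refine (le_height_iff _ _).2 fun P hP => ?_
  have hX : ∀ i, (X i : MvPolynomial (Fin n) k) ∈ P.asIdeal := fun i => hP (by
    rintro _ ⟨v, hv, rfl⟩
    rw [Set.mem_singleton_iff] at hv
    simp [hv])
  have hfd : DimFormula.fd k P.asIdeal = 0 := by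
    by_contra h
    obtain ⟨t, ht⟩ := (DimFormula.le_fd_iff k P.asIdeal 1).1 (Nat.one_le_iff_ne_zero.2 h)
    have hC : ∀ p : MvPolynomial (Fin n) k, p - C (eval 0 p) ∈ P.asIdeal := fun p => by
      induction p using MvPolynomial.induction_on with
      | C a => simp
      | add p q hp hq =>
        have := P.asIdeal.add_mem hp hq
        rwa [sub_add_sub_comm, ← map_add C, ← map_add] at this
      | mul_X p i hp => simpa using P.asIdeal.mul_mem_left p (hX i)
    have hG := ht (X 0 - C (eval 0 (t 0))) (by simpa [algebraMap_eq] using hC (t 0))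
    rw [MvPolynomial.mem_map_C_iff] at hG
    have h1 := hG (Finsupp.single 0 1)
    rw [coeff_sub, coeff_X, coeff_C, if_neg (Finsupp.single_ne_zero.2 one_ne_zero).symm, sub_zero, if_pos rfl] at h1
    exact (Ideal.IsPrime.under k P.asIdeal).ne_top ((Ideal.eq_top_iff_one _).2 h1)
  have h2 := DimFormula.height_add_fd_mvPolynomial k P
  rw [hfd, Nat.cast_zero, add_zero] at h2
  rw [h2]
  exact le_add_self

end Coordinates

section Product

variable [FiniteDimensional k W] [FiniteDimensional k V]

/-- Evaluation in coordinates. -/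
noncomputable def prodFunAlg :
    MvPolynomial (Fin (Module.finrank k V)) (MvPolynomial (Fin (Module.finrank k W)) k) →+* ↥(polyFunAlg k (W × V)) :=
  eval₂Hom (aeval fun i => (⟨fun p => (Module.finBasis k W).coord i p.1,
      Algebra.subset_adjoin ⟨((Module.finBasis k W).coord i).comp (LinearMap.fst k W V), rfl⟩⟩ :
        ↥(polyFunAlg k (W × V)))).toRingHom
    fun j => ⟨fun p => (Module.finBasis k V).coord j p.2,
      Algebra.subset_adjoin ⟨((Module.finBasis k V).coord j).comp (LinearMap.snd k W V), rfl⟩⟩

theorem prodFunAlg_apply (f : MvPolynomial (Fin (Module.finrank k V)) (MvPolynomial (Fin (Module.finrank k W)) k))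
    (p : W × V) : (prodFunAlg f).1 p = eval₂' (fun i => (Module.finBasis k W).repr p.1 i)
      (fun j => (Module.finBasis k V).repr p.2 j) f := by
  induction f using MvPolynomial.induction_on with
  | C a =>
    simp only [prodFunAlg, eval₂', eval₂Hom_C]
    induction a using MvPolynomial.induction_on with
    | C c => simp
    | add f g hf hg =>
      rw [map_add, map_add, Subalgebra.coe_add, Pi.add_apply, hf, hg]
    | mul_X f i hf =>
      rw [map_mul, map_mul, Subalgebra.coe_mul, Pi.mul_apply, hf]
      simp
  | add f g hf hg => rw [map_add, map_add, Subalgebra.coe_add, Pi.add_apply, hf, hg]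
  | mul_X f i hf =>
    rw [map_mul, map_mul, Subalgebra.coe_mul, Pi.mul_apply, hf]
    simp [prodFunAlg, eval₂']

theorem prodFunAlg_bijective [Infinite k] :
    Function.Bijective (prodFunAlg (k := k) (V := V) (W := W)) := by
  refine ⟨(injective_iff_map_eq_zero _).2 fun f hf => ?_, fun f => ?_⟩
  · refine MvPolynomial.ext _ _ fun e => MvPolynomial.funext fun a => ?_
    have h0 : map (eval a) f = 0 := MvPolynomial.funext fun y => by
      have := congrArg (fun g : ↥(polyFunAlg k (W × V)) =>
        g.1 ((Module.finBasis k W).equivFun.symm a, (Module.finBasis k V).equivFun.symm y)) hf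
      simp only [prodFunAlg_apply] at this
      rw [show (fun i => (Module.finBasis k W).repr ((Module.finBasis k W).equivFun.symm a) i) = a from
          (Module.finBasis k W).equivFun.apply_symm_apply a,
        show (fun i => (Module.finBasis k V).repr ((Module.finBasis k V).equivFun.symm y) i) = y from
          (Module.finBasis k V).equivFun.apply_symm_apply y] at this
      rw [map_zero, eval_map]
      exact this
    rw [coeff_zero, map_zero, ← coeff_map, h0, coeff_zero]
  · obtain ⟨f, hf⟩ := f
    induction hf using Algebra.adjoin_induction with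
    | mem x hx =>
      obtain ⟨l, rfl⟩ := hx
      refine ⟨C (∑ i, C (l ((Module.finBasis k W) i, 0)) * X i) +
        ∑ j, C (C (l (0, (Module.finBasis k V) j))) * X j, Subtype.ext (_root_.funext fun p => ?_)⟩
      rw [prodFunAlg_apply]
      have e : p = (∑ i, (Module.finBasis k W).repr p.1 i • ((Module.finBasis k W) i, (0 : V))) +
          ∑ j, (Module.finBasis k V).repr p.2 j • ((0 : W), (Module.finBasis k V) j) := by
        refine Prod.ext ?_ ?_
        · simp [Prod.fst_sum, (Module.finBasis k W).sum_repr]
        · simp [Prod.snd_sum, (Module.finBasis k V).sum_repr]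
      show _ = l p
      conv_rhs => rw [e]
      simp only [map_add, map_sum, map_smul, smul_eq_mul]
      simp [eval₂', mul_comm]
    | algebraMap r => exact ⟨C (C r), Subtype.ext (_root_.funext fun p => by rw [prodFunAlg_apply]; simp [eval₂'])⟩
    | add x y _ _ hx hy =>
      obtain ⟨p, hp⟩ := hx; obtain ⟨q, hq⟩ := hy
      exact ⟨p + q, by rw [map_add, hp, hq]; rfl⟩
    | mul x y _ _ hx hy =>
      obtain ⟨p, hp⟩ := hx; obtain ⟨q, hq⟩ := hy
      exact ⟨p * q, by rw [map_mul, hp, hq]; rfl⟩

/-- The coordinates of a subset of the product. -/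
noncomputable def coordSet (Z : Set (W × V)) :
    Set ((Fin (Module.finrank k W) → k) × (Fin (Module.finrank k V) → k)) :=
  {z | ((Module.finBasis k W).equivFun.symm z.1, (Module.finBasis k V).equivFun.symm z.2) ∈ Z}

theorem height_prodIdeal [Infinite k] (Z : Set (W × V)) :
    (prodIdeal (coordSet (k := k) Z)).height = (vanishingFun k Z).height := by
  let e := RingEquiv.ofBijective (prodFunAlg (k := k) (V := V) (W := W)) prodFunAlg_bijective
  have h : (vanishingFun k Z).comap e = prodIdeal (coordSet (k := k) Z) := by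
    ext f
    constructor
    · intro hf z hz
      have := hf _ hz
      rwa [show e f = prodFunAlg f from rfl, prodFunAlg_apply,
        show (fun i => (Module.finBasis k W).repr ((Module.finBasis k W).equivFun.symm z.1) i) = z.1 from
          (Module.finBasis k W).equivFun.apply_symm_apply _,
        show (fun i => (Module.finBasis k V).repr ((Module.finBasis k V).equivFun.symm z.2) i) = z.2 from
          (Module.finBasis k V).equivFun.apply_symm_apply _] at this
    · intro hf p hp
      show (prodFunAlg f).1 p = 0
      rw [prodFunAlg_apply]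
      refine hf (fun i => (Module.finBasis k W).repr p.1 i, fun j => (Module.finBasis k V).repr p.2 j) ?_
      show ((Module.finBasis k W).equivFun.symm ((Module.finBasis k W).equivFun p.1),
        (Module.finBasis k V).equivFun.symm ((Module.finBasis k V).equivFun p.2)) ∈ Z
      simpa using hp
  rw [← h, e.height_comap]

theorem coordSet_closed [Infinite k] {Z : Set (W × V)} (hZ : IsZOpen k Zᶜ)
    (z : (Fin (Module.finrank k W) → k) × (Fin (Module.finrank k V) → k))
    (hz : ∀ f ∈ prodIdeal (coordSet (k := k) Z), eval₂' z.1 z.2 f = 0) : z ∈ coordSet (k := k) Z := by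
  by_contra hne
  obtain ⟨g, hg, hgz, hgZ⟩ := hZ _ hne
  obtain ⟨f, hf⟩ := prodFunAlg_bijective.2 (⟨g, hg⟩ : ↥(polyFunAlg k (W × V)))
  have hval : ∀ p : W × V, eval₂' (fun i => (Module.finBasis k W).repr p.1 i)
      (fun j => (Module.finBasis k V).repr p.2 j) f = g p := fun p => by
    rw [← prodFunAlg_apply, hf]
  have hmem : f ∈ prodIdeal (coordSet (k := k) Z) := fun y hy => by
    by_contra h
    have := hval (((Module.finBasis k W).equivFun.symm y.1), ((Module.finBasis k V).equivFun.symm y.2))
    rw [show (fun i => (Module.finBasis k W).repr ((Module.finBasis k W).equivFun.symm y.1) i) = y.1 from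
        (Module.finBasis k W).equivFun.apply_symm_apply _,
      show (fun i => (Module.finBasis k V).repr ((Module.finBasis k V).equivFun.symm y.2) i) = y.2 from
        (Module.finBasis k V).equivFun.apply_symm_apply _] at this
    exact hgZ _ (this ▸ h) hy
  have := hval (((Module.finBasis k W).equivFun.symm z.1), ((Module.finBasis k V).equivFun.symm z.2))
  rw [show (fun i => (Module.finBasis k W).repr ((Module.finBasis k W).equivFun.symm z.1) i) = z.1 from
      (Module.finBasis k W).equivFun.apply_symm_apply _,
    show (fun i => (Module.finBasis k V).repr ((Module.finBasis k V).equivFun.symm z.2) i) = z.2 from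
      (Module.finBasis k V).equivFun.apply_symm_apply _, hz f hmem] at this
  exact hgz this.symm

/-- A closed incidence has codimension at least `c` when its fibres do, off a subset of codimension `c`. -/
theorem codimGE_of_fibres [IsAlgClosed k] {Z : Set (W × V)} (hZ : IsZOpen k Zᶜ) (B : Set W) {c : ℕ}
    (hB : CodimGE k B c) (hfib : ∀ w ∉ B, CodimGE k {v | (w, v) ∈ Z} c) : CodimGE k Z c := by
  show (c : ℕ∞) ≤ _
  rw [← height_prodIdeal]
  refine height_ge_of_fibres _ (coordSet_closed hZ) ((Module.finBasis k W).equivFun '' B)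
    ((codimGE_iff (Module.finBasis k W) B c).1 hB) fun a ha => ?_
  refine ((codimGE_iff (Module.finBasis k V) _ c).1 (hfib ((Module.finBasis k W).equivFun.symm a)
    fun h => ha ⟨_, h, (Module.finBasis k W).equivFun.apply_symm_apply a⟩)).trans
    (Ideal.height_mono (vanishingIdeal_anti_mono ?_))
  exact fun y hy => ⟨_, hy, (Module.finBasis k V).equivFun.apply_symm_apply y⟩

/-- Codimensions add up along the first projection. -/
theorem codimGE_add_of_fibres [IsAlgClosed k] {Z : Set (W × V)} (hZ : IsZOpen k Zᶜ) (S : Set W) {b c : ℕ}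
    (hS : CodimGE k S b) (hproj : ∀ p ∈ Z, p.1 ∈ S) (hfib : ∀ w, CodimGE k {v | (w, v) ∈ Z} c) :
    CodimGE k Z (b + c) := by
  show ((b + c : ℕ) : ℕ∞) ≤ _
  rw [← height_prodIdeal]
  refine height_ge_add_of_fibres _ (coordSet_closed hZ) ((Module.finBasis k W).equivFun '' S)
    ((codimGE_iff (Module.finBasis k W) S b).1 hS)
    (fun z hz => ⟨_, hproj _ hz, (Module.finBasis k W).equivFun.apply_symm_apply z.1⟩) fun a => ?_
  refine ((codimGE_iff (Module.finBasis k V) _ c).1 (hfib ((Module.finBasis k W).equivFun.symm a))).trans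
    (Ideal.height_mono (vanishingIdeal_anti_mono ?_))
  exact fun y hy => ⟨_, hy, (Module.finBasis k V).equivFun.apply_symm_apply y⟩

/-- An incidence of codimension greater than the dimension of `W` misses a general point of `V`. -/
theorem isGeneric_of_codimGE [Infinite k] {Z : Set (W × V)} {c : ℕ} (h : CodimGE k Z c)
    (hc : Module.finrank k W < c) : IsGeneric k {v : V | ∀ w, (w, v) ∉ Z} := by
  let b := Module.finBasis k (W × V)
  let bV := Module.finBasis k V
  have hP : ∀ j, ∃ p, ∀ q : W × V, bV.repr q.2 j = eval (fun i => b.repr q i) p := fun j =>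
    exists_eval_eq b (isPolyFun_linear ((bV.coord j).comp (LinearMap.snd k W V)))
  choose P hP using hP
  obtain ⟨R, hR0, hR⟩ := exists_relation_of_height _ ((codimGE_iff b Z c).1 h)
    (show Module.finrank k (W × V) < Module.finrank k V + c by rw [Module.finrank_prod]; omega) P
  refine ⟨fun v => eval (fun j => bV.repr v j) R, isPolyFun_eval R _ fun j => isPolyFun_linear (bV.coord j), ?_,
    fun v hv w hw => hv ?_⟩
  · by_contra! hz
    refine hR0 (MvPolynomial.funext fun x => ?_)
    have := hz (bV.equivFun.symm x)
    rw [show (fun j => bV.repr (bV.equivFun.symm x) j) = x from bV.equivFun.apply_symm_apply x] at this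
    simpa using this
  · have := hR _ ⟨(w, v), hw, rfl⟩
    simpa only [← hP] using this

end Product

theorem codimGE_snd [IsAlgClosed k] [FiniteDimensional k V] [FiniteDimensional k W] {D : Set W} {c : ℕ}
    (h : CodimGE k D c) : CodimGE k {p : V × W | p.2 ∈ zClosure k D} c := by
  refine codimGE_of_fibres (fun p hp => ?_) ∅ (codimGE_empty c) fun w _ => codimGE_zClosure h
  obtain ⟨f, hf, hfv, hfD⟩ := isZOpen_compl_zClosure D p.2 hp
  exact ⟨fun q => f q.2,
    isPolyFun_comp (ψ := Prod.snd) hf (fun l => isPolyFun_linear (l.comp (LinearMap.snd k V W))),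
    hfv, fun q hq => hfD q.2 hq⟩

/-- Preimages under surjective linear maps. -/
theorem codimGE_preimage [IsAlgClosed k] [FiniteDimensional k V] [FiniteDimensional k W] (L : V →ₗ[k] W)
    (hL : Function.Surjective L) {D : Set W} {c : ℕ} (h : CodimGE k D c) : CodimGE k (L ⁻¹' D) c := by
  obtain ⟨s, hs⟩ := L.exists_rightInverse_of_surjective (LinearMap.range_eq_top.2 hL)
  have hs' : ∀ w, L (s w) = w := fun w => LinearMap.congr_fun hs w
  let e : V ≃ₗ[k] ↥(LinearMap.ker L) × W :=
    { toFun := fun v => (⟨v - s (L v), by simp [hs']⟩, L v)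
      map_add' := fun a b => by ext <;> simp <;> abel
      map_smul' := fun r a => by ext <;> simp [smul_sub]
      invFun := fun p => p.1.1 + s p.2
      left_inv := fun v => by simp
      right_inv := fun p => by
        have hp : L p.1.1 = 0 := p.1.2
        refine Prod.ext (Subtype.ext ?_) ?_ <;> simp [hs', hp] }
  have hZ : CodimGE k {p : ↥(LinearMap.ker L) × W | p.2 ∈ zClosure k D} c := codimGE_snd h
  have h2 : CodimGE k (⇑e ⁻¹' {p : ↥(LinearMap.ker L) × W | p.2 ∈ zClosure k D}) c :=
    codimGE_linearEquiv e _ hZ
  refine codimGE_mono (fun v hv => ?_) h2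
  rw [Set.mem_preimage, Set.mem_setOf_eq]
  exact subset_zClosure D hv

/-- A linear subspace has the codimension of its quotient. -/
theorem codimGE_submodule [IsAlgClosed k] [FiniteDimensional k V] (U : Submodule k V) :
    CodimGE k (U : Set V) (Module.finrank k (V ⧸ U)) := by
  refine codimGE_mono ?_ (codimGE_preimage U.mkQ U.mkQ_surjective (codimGE_singleton_zero (Module.finBasis k (V ⧸ U))))
  intro v hv
  simpa [Submodule.Quotient.mk_eq_zero] using hv

end Groth.Agent.Incid42
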