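import Groth.Agent.Incid42.Elim
import Mathlib.RingTheory.MvPolynomial.IrreducibleQuadratic
import Mathlib.Algebra.Squarefree.Basic
import Mathlib.LinearAlgebra.Dual.Lemmas

/-!
# Divisors of forms, and the locus of forms which are not squarefree
-/

set_option autoImplicit false

universe u

open LefPen MvPolynomial

namespace Groth.Agent.Incid42

variable {k : Type u} [Field k]

/-- The dilation `P ↦ P (t X)`. -/
noncomputable def dilate {σ : Type*} : MvPolynomial σ k →ₐ[k] Polynomial (MvPolynomial σ k) :=
  aeval fun i => Polynomial.C (X i) * Polynomial.X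

theorem dilate_monomial {σ : Type*} (a : σ →₀ ℕ) (c : k) :
    dilate (monomial a c) = Polynomial.monomial a.degree (monomial a c) := by
  rw [dilate, aeval_monomial, Finsupp.prod, ← Polynomial.C_mul_X_pow_eq_monomial, monomial_eq, Finsupp.prod]
  simp only [mul_pow, Finset.prod_mul_distrib, Finset.prod_pow_eq_pow_sum, map_mul, map_prod, map_pow,
    Finsupp.degree_apply]
  rw [IsScalarTower.algebraMap_apply k (MvPolynomial σ k) (Polynomial (MvPolynomial σ k)),
    Polynomial.algebraMap_eq, algebraMap_eq]
  ring

theorem coeff_dilate {σ : Type*} (P : MvPolynomial σ k) (j : ℕ) :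
    (dilate P).coeff j = homogeneousComponent j P := by
  induction P using MvPolynomial.induction_on' with
  | monomial a c =>
    rw [dilate_monomial, Polynomial.coeff_monomial]
    split_ifs with h
    · exact (homogeneousComponent_of_mem ((mem_homogeneousSubmodule _ _).2 (isHomogeneous_monomial c h))).trans
        (if_pos rfl) |>.symm
    · exact ((homogeneousComponent_of_mem ((mem_homogeneousSubmodule _ _).2 (isHomogeneous_monomial c rfl))).trans
        (if_neg (Ne.symm h))).symm
  | add P Q hP hQ => simp [hP, hQ]

theorem isHomogeneous_of_mul {σ : Type*} {P Q : MvPolynomial σ k} {d : ℕ}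
    (h : (P * Q).IsHomogeneous d) (h0 : P * Q ≠ 0) :
    ∃ e f, e + f = d ∧ P.IsHomogeneous e ∧ Q.IsHomogeneous f := by
  have hd : dilate (P * Q) = Polynomial.monomial d (P * Q) := Polynomial.ext fun j => by
    rw [coeff_dilate, Polynomial.coeff_monomial, homogeneousComponent_of_mem ((mem_homogeneousSubmodule _ _).2 h)]
    by_cases hj : j = d <;> simp [hj, Ne.symm]
  have hne : ∀ R : MvPolynomial σ k, R ≠ 0 → dilate R ≠ 0 := fun R hR hz => hR (by
    rw [← sum_homogeneousComponent R]
    exact Finset.sum_eq_zero fun j _ => by rw [← coeff_dilate, hz, Polynomial.coeff_zero])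
  have hP0 := hne P (left_ne_zero_of_mul h0)
  have hQ0 := hne Q (right_ne_zero_of_mul h0)
  have hdeg := congrArg Polynomial.natDegree hd
  have htr := congrArg Polynomial.natTrailingDegree hd
  rw [map_mul, Polynomial.natDegree_mul hP0 hQ0, Polynomial.natDegree_monomial_eq _ h0] at hdeg
  rw [map_mul, Polynomial.natTrailingDegree_mul hP0 hQ0, Polynomial.natTrailingDegree_monomial h0] at htr
  have h1 := Polynomial.natTrailingDegree_le_natDegree (dilate P)
  have h2 := Polynomial.natTrailingDegree_le_natDegree (dilate Q)
  have hhom : ∀ R : MvPolynomial σ k, (dilate R).natTrailingDegree = (dilate R).natDegree →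
      R.IsHomogeneous (dilate R).natDegree := fun R hR => by
    conv => arg 1; rw [← sum_homogeneousComponent R]
    refine IsHomogeneous.sum _ _ _ fun j _ => ?_
    by_cases hj : j = (dilate R).natDegree
    · rw [hj]; exact homogeneousComponent_isHomogeneous _ _
    · rw [← coeff_dilate]
      rcases lt_or_gt_of_ne hj with hj' | hj'
      · rw [Polynomial.coeff_eq_zero_of_lt_natTrailingDegree (hR.symm ▸ hj')]; exact isHomogeneous_zero _ _ _
      · rw [Polynomial.coeff_eq_zero_of_natDegree_lt hj']; exact isHomogeneous_zero _ _ _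
  exact ⟨_, _, hdeg, hhom P (by omega), hhom Q (by omega)⟩

/-- A square submatrix with non-zero determinant. -/
theorem exists_minor_of_linearIndependent {ι σ : Type} [Fintype ι] [DecidableEq ι] [Fintype σ]
    (M : Matrix σ ι k) (h : LinearIndependent k M.col) :
    ∃ r : ι → σ, (M.submatrix r id).det ≠ 0 := by
  classical
  have hspan : Submodule.span k (Set.range M.row) = ⊤ := by
    by_contra hne
    obtain ⟨φ, hφ, hφS⟩ := Submodule.exists_dual_map_eq_bot_of_lt_top
      (p := Submodule.span k (Set.range M.row)) (lt_top_iff_ne_top.2 hne) inferInstance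
    refine hφ (LinearMap.pi_ext' fun i => LinearMap.ext_ring ?_)
    have hy := Fintype.linearIndependent_iff.1 h (fun i => φ (Pi.single i 1)) (funext fun j => by
      have h0 : φ (M.row j) = 0 := by
        have : φ (M.row j) ∈ (Submodule.span k (Set.range M.row)).map φ :=
          ⟨M.row j, Submodule.subset_span ⟨j, rfl⟩, rfl⟩
        rw [hφS] at this
        exact (Submodule.mem_bot k).1 this
      rw [Finset.sum_apply, Pi.zero_apply, ← h0]
      conv_rhs => rw [pi_eq_sum_univ' (M.row j), map_sum]
      exact Finset.sum_congr rfl fun i _ => by rw [map_smul, smul_eq_mul, mul_comm]; rfl) i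
    simpa using hy
  obtain ⟨τ, a, ha, hsp, hli⟩ := exists_linearIndependent' k M.row
  rw [hspan] at hsp
  have : Finite τ := Finite.of_injective a ha
  cases nonempty_fintype τ
  let e : ι ≃ τ := Fintype.equivOfCardEq (by
    rw [← Module.finrank_eq_card_basis (Module.Basis.mk hli hsp.ge), Module.finrank_fintype_fun_eq_card])
  refine ⟨a ∘ e, ((Matrix.isUnit_iff_isUnit_det _).1 ?_).ne_zero⟩
  rw [← Matrix.linearIndependent_rows_iff_isUnit]
  exact hli.comp e e.injective

variable {n : ℕ}

/-- `F` is `A ^ 2` times a form, with `A` non-zero of degree `e`. -/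
def HasSquareFactor (d e : ℕ) (F : Form n k d) : Prop :=
  ∃ A : Form n k e, A ≠ 0 ∧ ∃ B : MvPolynomial (Fin (n + 1)) k, B.IsHomogeneous (d - 2 * e) ∧ F.1 = A.1 ^ 2 * B

/-- The generic form of degree `e`. -/
noncomputable def genericForm (n e : ℕ) (ε : Mon n e ≃ Fin (Nat.choose (n + e) e - 1 + 1)) :
    MvPolynomial (Fin (n + 1)) (MvPolynomial (Fin (Nat.choose (n + e) e - 1 + 1)) k) :=
  ∑ a : Mon n e, monomial a.1 (X (ε a))

/-- The matrix whose columns are `A ^ 2` times the monomials, and `F`. -/
noncomputable def sqMatrix (d e : ℕ) (ε : Mon n e ≃ Fin (Nat.choose (n + e) e - 1 + 1)) (F : Form n k d) :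
    Matrix (Mon n d) (Option (Mon n (d - 2 * e))) (MvPolynomial (Fin (Nat.choose (n + e) e - 1 + 1)) k) :=
  Matrix.of fun a o => o.elim (C (coeff a.1 F.1)) fun b => coeff a.1 (genericForm n e ε ^ 2 * monomial b.1 1)

theorem map_genericForm (e : ℕ) (ε : Mon n e ≃ Fin (Nat.choose (n + e) e - 1 + 1))
    (x : Fin (Nat.choose (n + e) e - 1 + 1) → k) :
    MvPolynomial.map (eval x) (genericForm n e ε) = ((formEquiv k n e).symm fun a => x (ε a)).1 := by
  simp only [genericForm, map_sum, map_monomial, eval_X]
  rfl

theorem eval_sqMatrix (d e : ℕ) (ε : Mon n e ≃ Fin (Nat.choose (n + e) e - 1 + 1)) (F : Form n k d)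
    (x : Fin (Nat.choose (n + e) e - 1 + 1) → k) (a : Mon n d) (o : Option (Mon n (d - 2 * e))) :
    eval x (sqMatrix d e ε F a o) = coeff a.1 (o.elim F.1 fun b =>
      ((formEquiv k n e).symm fun a => x (ε a)).1 ^ 2 * monomial b.1 1) := by
  cases o with
  | none => simp [sqMatrix]
  | some b =>
    show eval x (coeff a.1 (genericForm n e ε ^ 2 * monomial b.1 1)) = _
    rw [← coeff_map, map_mul, map_pow, map_genericForm, map_monomial, map_one]
    rfl

theorem isHomogeneous_coeff_genericForm (e : ℕ) (ε : Mon n e ≃ Fin (Nat.choose (n + e) e - 1 + 1))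
    (c : Fin (n + 1) →₀ ℕ) :
    (coeff c (genericForm (k := k) n e ε)).IsHomogeneous 1 := by
  classical
  simp only [genericForm, coeff_sum, coeff_monomial]
  refine IsHomogeneous.sum _ _ _ fun a _ => ?_
  split_ifs
  · exact isHomogeneous_X _ _
  · exact isHomogeneous_zero _ _ _

theorem isHomogeneous_sqMatrix (d e : ℕ) (ε : Mon n e ≃ Fin (Nat.choose (n + e) e - 1 + 1)) (F : Form n k d)
    (a : Mon n d) (o : Option (Mon n (d - 2 * e))) :
    (sqMatrix d e ε F a o).IsHomogeneous (o.elim 0 fun _ => 2) := by
  classical
  cases o with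
  | none => exact isHomogeneous_C _ _
  | some b =>
    show (coeff a.1 (genericForm n e ε ^ 2 * monomial b.1 1)).IsHomogeneous 2
    rw [pow_two, coeff_mul_monomial']
    split_ifs
    · rw [mul_one, coeff_mul]
      exact IsHomogeneous.sum _ _ _ fun c _ =>
        (isHomogeneous_coeff_genericForm e ε c.1).mul (isHomogeneous_coeff_genericForm e ε c.2)
    · exact isHomogeneous_zero _ _ _

variable [IsAlgClosed k]

set_option maxHeartbeats 1600000 in
theorem isZOpen_not_hasSquareFactor (d e : ℕ) (he : 2 * e ≤ d) :
    IsZOpen k {F : Form n k d | ¬ HasSquareFactor d e F} := by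
  classical
  have hpos : 0 < Nat.choose (n + e) e := Nat.choose_pos (Nat.le_add_left _ _)
  let ε : Mon n e ≃ Fin (Nat.choose (n + e) e - 1 + 1) :=
    Fintype.equivFinOfCardEq (by rw [card_mon]; omega)
  have h := isZOpen_noCommonZero
    (fun (r : Option (Mon n (d - 2 * e)) → Mon n d) (F : Form n k d) => ((sqMatrix d e ε F).submatrix r id).det)
    (fun _ => ∑ o : Option (Mon n (d - 2 * e)), o.elim 0 fun _ => 2)
    (fun r F => ?_) (fun r => ?_)
  · have heq : {F : Form n k d | ¬ HasSquareFactor d e F} =
        {F | ∀ x, (∀ r, eval x ((sqMatrix d e ε F).submatrix r id).det = 0) → x = 0} := by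
      ext F
      constructor
      · intro hno x hx
        by_contra hx0
        set A := (formEquiv k n e).symm fun a => x (ε a) with hA
        have hA0 : A ≠ 0 := fun h0 => hx0 (funext fun i => by
          have := congrFun (congrArg (formEquiv k n e) h0) (ε.symm i)
          simpa [hA] using this)
        let M : Matrix (Mon n d) (Option (Mon n (d - 2 * e))) k :=
          Matrix.of fun a o => eval x (sqMatrix d e ε F a o)
        have hdep : ¬ LinearIndependent k M.col := fun hli => by
          obtain ⟨r, hr⟩ := exists_minor_of_linearIndependent M hli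
          refine hr ?_
          have := hx r
          rw [RingHom.map_det] at this
          exact this
        rw [Fintype.linearIndependent_iff] at hdep
        push Not at hdep
        obtain ⟨g, hg, o₀, ho₀⟩ := hdep
        set B : MvPolynomial (Fin (n + 1)) k := ∑ b : Mon n (d - 2 * e), monomial b.1 (g (some b)) with hB
        have hBhom : B.IsHomogeneous (d - 2 * e) :=
          IsHomogeneous.sum _ _ _ fun b _ => isHomogeneous_monomial _ (mem_mon_iff.1 b.2)
        have hrel : C (g none) * F.1 + A.1 ^ 2 * B = 0 := by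
          have hhom : (C (g none) * F.1 + A.1 ^ 2 * B).IsHomogeneous d := by
            refine (((mem_homogeneousSubmodule _ _).1 F.2).C_mul _).add ?_
            have := (((mem_homogeneousSubmodule _ _).1 A.2).pow 2).mul hBhom
            rwa [show e * 2 + (d - 2 * e) = d by omega] at this
          ext a
          by_cases ha : a.degree = d
          · have := congrFun hg ⟨a, mem_mon_iff.2 ha⟩
            simp only [Fintype.sum_option, Finset.sum_apply, Pi.add_apply, Pi.smul_apply, smul_eq_mul, M, Matrix.col,
              Matrix.transpose_apply, Matrix.of_apply, eval_sqMatrix, Option.elim, ← hA, Pi.zero_apply] at this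
            rw [coeff_add, coeff_C_mul, hB, Finset.mul_sum, coeff_sum, coeff_zero, ← this]
            congr 1
            exact Finset.sum_congr rfl fun b _ => by
              rw [← coeff_C_mul, ← mul_left_comm (A.1 ^ 2), C_mul_monomial, mul_one]
          · rw [hhom.coeff_eq_zero ha, coeff_zero]
        by_cases hg0 : g none = 0
        · rw [hg0, map_zero, zero_mul, zero_add] at hrel
          have hB0 : B = 0 := (mul_eq_zero.1 hrel).resolve_left (pow_ne_zero _ fun h => hA0 (Subtype.ext h))
          cases o₀ with
          | none => exact ho₀ hg0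
          | some b₀ =>
            have := congrArg (coeff b₀.1) hB0
            rw [hB, coeff_sum, Finset.sum_eq_single b₀ (fun b _ hb => by
              rw [coeff_monomial, if_neg fun h => hb (Subtype.ext h)]) (by simp), coeff_monomial, if_pos rfl,
              coeff_zero] at this
            exact ho₀ this
        · refine hno ⟨A, hA0, C (-(g none)⁻¹) * B, hBhom.C_mul _, ?_⟩
          have hC : C (g none) * C (g none)⁻¹ = (1 : MvPolynomial (Fin (n + 1)) k) := by
            rw [← map_mul, mul_inv_cancel₀ hg0, map_one]
          rw [map_neg]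
          linear_combination (C (g none)⁻¹ : MvPolynomial (Fin (n + 1)) k) * hrel - F.1 * hC
      · rintro hF ⟨A, hA0, B, hB, hFB⟩
        let x := fun i => formEquiv k n e A (ε.symm i)
        have hA : ((formEquiv k n e).symm fun a => x (ε a)) = A := by simp [x]
        refine hA0 ?_
        have hx : x = 0 := hF x fun r => ?_
        · exact (formEquiv k n e).injective (by
            rw [map_zero]
            funext a
            simpa [x] using congrFun hx (ε a))
        rw [RingHom.map_det]
        refine Matrix.exists_mulVec_eq_zero_iff.1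
          ⟨fun o => o.elim (-1) fun b => coeff b.1 B, fun h => ?_, funext fun a => ?_⟩
        · exact neg_ne_zero.2 one_ne_zero (congrFun h none)
        · simp only [Matrix.mulVec, dotProduct, RingHom.mapMatrix_apply, Matrix.map_apply, Matrix.submatrix_apply,
            id, Fintype.sum_option, eval_sqMatrix, hA, Option.elim, Pi.zero_apply]
          have hBs : B = ∑ b : Mon n (d - 2 * e), monomial b.1 (coeff b.1 B) :=
            congrArg Subtype.val ((formEquiv k n (d - 2 * e)).symm_apply_apply ⟨B, (mem_homogeneousSubmodule _ _).2 hB⟩).symm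
          conv_lhs => arg 1; rw [hFB, hBs, Finset.mul_sum, coeff_sum]
          rw [mul_neg_one, neg_add_eq_zero]
          exact Finset.sum_congr rfl fun b _ => by
            rw [mul_comm _ (coeff b.1 B), ← coeff_C_mul, mul_left_comm, C_mul_monomial, mul_one]
    rw [heq]
    exact h
  · rw [Matrix.det_apply']
    refine IsHomogeneous.sum _ _ _ fun σ _ => ?_
    have hp := IsHomogeneous.prod Finset.univ _ _ fun o (_ : o ∈ Finset.univ) =>
      isHomogeneous_sqMatrix d e ε F (r (σ o)) o
    rw [show ((Equiv.Perm.sign σ : ℤ) : MvPolynomial (Fin (Nat.choose (n + e) e - 1 + 1)) k) =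
      C ((Equiv.Perm.sign σ : ℤ) : k) by simp]
    exact hp.C_mul _
  · simp only [Matrix.det_apply', Matrix.submatrix_apply, id]
    refine isPolyFamily_sum _ _ fun σ _ => isPolyFamily_mul (isPolyFamily_const _) ?_
    suffices hh : ∀ s : Finset (Option (Mon n (d - 2 * e))),
        IsPolyFamily k (fun F : Form n k d => ∏ o ∈ s, sqMatrix d e ε F (r (σ o)) o) from hh Finset.univ
    intro s
    induction s using Finset.induction_on with
    | empty => simpa using isPolyFamily_const (W := Form n k d) (1 : MvPolynomial (Fin (Nat.choose (n + e) e - 1 + 1)) k)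
    | insert o s hos ih =>
      simp only [Finset.prod_insert hos]
      refine isPolyFamily_mul ?_ ih
      cases o with
      | none =>
        exact isPolyFamily_C (isPolyFun_linear ((MvPolynomial.lcoeff k (r (σ none)).1).comp (Submodule.subtype _)))
      | some b => exact isPolyFamily_const _

omit [IsAlgClosed k] in
theorem squarefree_iff (d : ℕ) (_hd : 1 ≤ d) (F : Form n k d) :
    Squarefree F.1 ↔ F ≠ 0 ∧ ∀ e ∈ Finset.Icc 1 d, 2 * e ≤ d → ¬ HasSquareFactor d e F := by
  constructor
  · intro h
    refine ⟨fun h0 => ?_, fun e he he2 ⟨A, hA0, B, hB, hF⟩ => ?_⟩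
    · rw [h0] at h
      exact not_squarefree_zero h
    · have hu := h A.1 ⟨B, by rw [hF, pow_two]⟩
      have hd0 : A.1.totalDegree = 0 := (MvPolynomial.isUnit_iff_totalDegree_of_isReduced.1 hu).2
      rw [((mem_homogeneousSubmodule _ _).1 A.2).totalDegree fun h0 => hA0 (Subtype.ext h0)] at hd0
      simp at he
      omega
  · rintro ⟨hF0, h⟩ x ⟨c, hc⟩
    by_contra hu
    have hne : F.1 ≠ 0 := fun h0 => hF0 (Subtype.ext h0)
    have hxx : x * x * c ≠ 0 := hc ▸ hne
    have hhom : (x * (x * c)).IsHomogeneous d := by
      rw [← mul_assoc, ← hc]; exact (mem_homogeneousSubmodule _ _).1 F.2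
    obtain ⟨e, f, hef, hx, hxc⟩ := isHomogeneous_of_mul hhom (by rwa [← mul_assoc])
    obtain ⟨e', g, heg, hx', hcg⟩ := isHomogeneous_of_mul hxc (right_ne_zero_of_mul (mul_assoc x x c ▸ hxx))
    have hx0 : x ≠ 0 := left_ne_zero_of_mul (left_ne_zero_of_mul hxx)
    obtain rfl : e = e' := hx.inj_right hx' hx0
    have he : 1 ≤ e := by
      by_contra! he
      have h0 : x.totalDegree = 0 := by rw [hx.totalDegree hx0]; omega
      rw [totalDegree_eq_zero_iff_eq_C] at h0
      refine hu ?_
      rw [h0]
      refine (isUnit_iff_ne_zero.2 fun h1 => hx0 ?_).map C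
      rw [h0, h1, map_zero]
    refine h e (Finset.mem_Icc.2 ⟨he, by omega⟩) (by omega) ⟨⟨x, (mem_homogeneousSubmodule _ _).2 hx⟩,
      fun h0 => hx0 (congrArg Subtype.val h0), c, ?_, ?_⟩
    · rwa [show d - 2 * e = g by omega]
    · rw [hc, pow_two]

end Groth.Agent.Incid42
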