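import Groth.Agent.DimFormula.Basic
import Groth.Agent.ComodLib.Orbits
import Mathlib.RingTheory.Nullstellensatz
import Mathlib.Algebra.MvPolynomial.Funext

/-!
# Codimension of an incidence from the codimension of its fibres

A Zariski closed subset of `k^N × k^m` has codimension at least `c` as soon as this holds for its fibres
over the points outside a subset of the base of codimension at least `c`.
-/

set_option autoImplicit false

universe u

open MvPolynomial Order

namespace Groth.Agent.Incid42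

variable {k : Type u} [Field k]

/-- Evaluation of a polynomial on the product. -/
noncomputable def eval₂' {N m : ℕ} (a : Fin N → k) (y : Fin m → k) :
    MvPolynomial (Fin m) (MvPolynomial (Fin N) k) →+* k :=
  eval₂Hom (eval a) y

/-- The ideal of a subset of the product. -/
def prodIdeal {N m : ℕ} (Z : Set ((Fin N → k) × (Fin m → k))) :
    Ideal (MvPolynomial (Fin m) (MvPolynomial (Fin N) k)) where
  carrier := {f | ∀ z ∈ Z, eval₂' z.1 z.2 f = 0}
  zero_mem' := fun _ _ => map_zero _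
  add_mem' {f g} hf hg z hz := by rw [map_add, hf z hz, hg z hz, add_zero]
  smul_mem' c f hf z hz := by rw [smul_eq_mul, map_mul, hf z hz, mul_zero]

theorem le_height_iff {R : Type u} [CommRing R] (I : Ideal R) (c : ℕ∞) :
    c ≤ I.height ↔ ∀ P : PrimeSpectrum R, I ≤ P.asIdeal → c ≤ height P := by
  refine ⟨fun h P hP => ?_, fun h => ?_⟩
  · rw [← PrimeSpectrum.height_eq_orderHeight]
    exact h.trans (Ideal.height_mono hP)
  · rw [Ideal.height_eq_inf_minimalPrimes]
    refine le_iInf₂ fun p hp => ?_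
    have := h ⟨p, hp.isPrime⟩ hp.le
    rwa [← PrimeSpectrum.height_eq_orderHeight] at this

/-- A set of codimension at least `c` in `k^m` has an algebraically dependent image in `k^n`, `n > m - c`. -/
theorem exists_relation_of_height {m n c : ℕ} (S : Set (Fin m → k))
    (hS : (c : ℕ∞) ≤ (vanishingIdeal k S).height) (hn : m < n + c) (t : Fin n → MvPolynomial (Fin m) k) :
    ∃ R : MvPolynomial (Fin n) k, R ≠ 0 ∧ ∀ y ∈ S, eval (fun i => eval y (t i)) R = 0 := by
  classical
  have key : ∀ p ∈ (vanishingIdeal k S).minimalPrimes, ∃ R : MvPolynomial (Fin n) k, R ≠ 0 ∧ aeval t R ∈ p := by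
    intro p hp
    haveI := hp.isPrime
    by_contra! h
    have hindep : FibDim.IndepMod (A := k) t p := fun G hG => by
      have hG0 : G = 0 := by
        by_contra h0
        exact h G h0 hG
      rw [hG0]; exact zero_mem _
    have h1 : n ≤ DimFormula.fd k p := (DimFormula.le_fd_iff k p n).2 ⟨t, hindep⟩
    have h2 := DimFormula.height_add_fd_mvPolynomial k (⟨p, hp.isPrime⟩ : PrimeSpectrum (MvPolynomial (Fin m) k))
    have h3 : height (PrimeSpectrum.comap (algebraMap k (MvPolynomial (Fin m) k))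
        (⟨p, hp.isPrime⟩ : PrimeSpectrum (MvPolynomial (Fin m) k))) = 0 := by
      refine height_eq_zero.2 fun q _ => le_of_eq ?_
      exact Subsingleton.elim _ _
    have h4 : (c : ℕ∞) ≤ height (⟨p, hp.isPrime⟩ : PrimeSpectrum (MvPolynomial (Fin m) k)) :=
      (le_height_iff _ _).1 hS _ hp.le
    rw [h3, zero_add] at h2
    have h5 : (c : ℕ∞) + (n : ℕ) ≤ m := h2 ▸ add_le_add h4 (by exact_mod_cast h1)
    norm_cast at h5
    omega
  choose R hR0 hR using key
  let F := (vanishingIdeal k S).finite_minimalPrimes_of_isNoetherianRing.toFinset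
  refine ⟨∏ p ∈ F.attach, R p.1 ((Set.Finite.mem_toFinset _).1 p.2), Finset.prod_ne_zero_iff.2 fun p _ => hR0 _ _,
    fun y hy => ?_⟩
  have hmem : aeval t (∏ p ∈ F.attach, R p.1 ((Set.Finite.mem_toFinset _).1 p.2)) ∈ (vanishingIdeal k S).radical := by
    rw [← Ideal.sInf_minimalPrimes, Submodule.mem_sInf]
    intro p hp
    rw [map_prod]
    refine Ideal.mem_of_dvd _ (Finset.dvd_prod_of_mem _ (Finset.mem_attach _ ⟨p, (Set.Finite.mem_toFinset _).2 hp⟩)) (hR p hp)
  obtain ⟨e, he⟩ := hmem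
  have h0 : eval y (aeval t (∏ p ∈ F.attach, R p.1 ((Set.Finite.mem_toFinset _).1 p.2))) = 0 := by
    have h1 : eval y (aeval t (∏ p ∈ F.attach, R p.1 ((Set.Finite.mem_toFinset _).1 p.2))) ^ e = 0 := by
      have := he y hy
      rwa [aeval_eq_eval, map_pow] at this
    exact (pow_eq_zero_iff'.1 h1).1
  rw [← h0, ← aeval_eq_eval, ← aeval_eq_eval, ← AlgHom.comp_apply, comp_aeval]

/-- An injective map of affine domains has image containing the points off a hypersurface. -/
theorem exists_lift_points [IsAlgClosed k] {T : Type u} [CommRing T] [Algebra k T] [Algebra.FiniteType k T]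
    {D : Type u} [CommRing D] [IsDomain D] [Algebra k D] [Algebra.FiniteType k D]
    (φ₀ : T →ₐ[k] D) (I : Ideal T) (hI : ∀ G, G ∈ I ↔ φ₀ G = 0) :
    ∃ h : T, h ∉ I ∧ ∀ z₀ : T →ₐ[k] k, (∀ G ∈ I, z₀ G = 0) → z₀ h ≠ 0 → ∃ g : D →ₐ[k] k, g.comp φ₀ = z₀ := by
  let φ : T ⧸ I →ₐ[k] D := Ideal.Quotient.liftₐ I φ₀ fun G hG => (hI G).1 hG
  have hinj : Function.Injective φ := by
    rw [injective_iff_map_eq_zero]
    intro x hx
    obtain ⟨G, rfl⟩ := Ideal.Quotient.mk_surjective x
    exact Ideal.Quotient.eq_zero_iff_mem.2 ((hI G).2 hx)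
  have : IsDomain (T ⧸ I) := hinj.isDomain
  have : IsNoetherianRing (T ⧸ I) := Algebra.FiniteType.isNoetherianRing k _
  have hfp : φ.toRingHom.FinitePresentation := by
    refine RingHom.FinitePresentation.of_finiteType.1 ?_
    refine RingHom.FiniteType.of_comp_finiteType (f := algebraMap k (T ⧸ I)) ?_
    rw [show φ.toRingHom.comp (algebraMap k (T ⧸ I)) = algebraMap k D from RingHom.ext fun c => φ.commutes c]
    exact RingHom.finiteType_algebraMap.2 inferInstance
  obtain ⟨h, hh, hrange⟩ := ComodLib.exists_basicOpen_subset_range φ.toRingHom hfp hinj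
  obtain ⟨h', rfl⟩ := Ideal.Quotient.mk_surjective h
  refine ⟨h', fun hm => hh (by rw [Ideal.Quotient.eq_zero_iff_mem.2 hm]; exact IsNilpotent.zero),
    fun z₀ hz₀ hzh => ?_⟩
  let z : T ⧸ I →ₐ[k] k := Ideal.Quotient.liftₐ I z₀ hz₀
  obtain ⟨g, hg⟩ := ComodLib.exists_lift_of_mem_range φ z (hrange _ hzh)
  exact ⟨g, AlgHom.ext fun G => AlgHom.congr_fun hg (Ideal.Quotient.mk I G)⟩

/-- A point of the base where two polynomials do not vanish. -/
theorem exists_base_point [IsAlgClosed k] {N n : ℕ} (Q : Ideal (MvPolynomial (Fin N) k)) [Q.IsPrime]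
    (h : MvPolynomial (Fin n) (MvPolynomial (Fin N) k)) (hh : h ∉ Q.map C)
    (q : MvPolynomial (Fin N) k) (hq : q ∉ Q) :
    ∃ a : Fin N → k, (∀ p ∈ Q, eval a p = 0) ∧ eval a q ≠ 0 ∧ map (eval a) h ≠ 0 := by
  rw [MvPolynomial.mem_map_C_iff] at hh
  push Not at hh
  obtain ⟨e, he⟩ := hh
  have hmul : q * coeff e h ∉ Q := fun hm => (Ideal.IsPrime.mem_or_mem ‹_› hm).elim hq he
  have hrad : q * coeff e h ∉ vanishingIdeal k (zeroLocus k Q) := by
    rwa [IsPrime.vanishingIdeal_zeroLocus]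
  obtain ⟨a, ha, hne⟩ : ∃ a ∈ zeroLocus k Q, aeval a (q * coeff e h) ≠ 0 := by
    by_contra! h'
    exact hrad h'
  rw [aeval_eq_eval, map_mul] at hne
  refine ⟨a, fun p hp => by simpa [aeval_eq_eval] using ha p hp, left_ne_zero_of_mul hne, fun h0 => ?_⟩
  exact right_ne_zero_of_mul hne (by simpa [coeff_map] using congrArg (coeff e) h0)

/-- Over a prime of the base outside `B` the relative dimension is at most `m - c`. -/
theorem fd_add_le [IsAlgClosed k] {N m c : ℕ} (Z : Set ((Fin N → k) × (Fin m → k)))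
    (hZ : ∀ z, (∀ f ∈ prodIdeal Z, eval₂' z.1 z.2 f = 0) → z ∈ Z)
    (B : Set (Fin N → k))
    (hfib : ∀ a ∉ B, (c : ℕ∞) ≤ (vanishingIdeal k {y | (a, y) ∈ Z}).height)
    (P : PrimeSpectrum (MvPolynomial (Fin m) (MvPolynomial (Fin N) k))) (hP : prodIdeal Z ≤ P.asIdeal)
    (hQB : ∃ q ∈ vanishingIdeal k B, q ∉ P.asIdeal.under (MvPolynomial (Fin N) k)) :
    DimFormula.fd (MvPolynomial (Fin N) k) P.asIdeal + c ≤ m := by
  classical
  let A := MvPolynomial (Fin N) k
  set Q : Ideal A := P.asIdeal.under A with hQdef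
  obtain ⟨q, hqB, hqQ⟩ := hQB
  set fd := DimFormula.fd A P.asIdeal with hfd
  by_contra hsmall
  obtain ⟨t, ht⟩ := (DimFormula.le_fd_iff A P.asIdeal fd).1 le_rfl
  haveI : Q.IsPrime := Ideal.IsPrime.under A P.asIdeal
  -- the map of domains
  let φ₀ : MvPolynomial (Fin fd) A →ₐ[k] MvPolynomial (Fin m) A ⧸ P.asIdeal :=
    ((Ideal.Quotient.mkₐ A P.asIdeal).comp (aeval t)).restrictScalars k
  have hker : ∀ G, G ∈ Q.map C ↔ φ₀ G = 0 := fun G => by
    rw [← ht.mem_iff G]
    exact Ideal.Quotient.eq_zero_iff_mem.symm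
  obtain ⟨h', hh', hlift⟩ := exists_lift_points (T := MvPolynomial (Fin fd) A)
    (D := MvPolynomial (Fin m) A ⧸ P.asIdeal) φ₀ (Q.map C) hker
  obtain ⟨a, haQ, haq, hh₁⟩ := exists_base_point Q h' hh' q hqQ
  have haB : a ∉ B := fun hB' => haq (by simpa [aeval_eq_eval] using hqB a hB')
  -- the relation on the fibre
  let ta : Fin fd → MvPolynomial (Fin m) k := fun i => map (eval a) (t i)
  obtain ⟨R, hR0, hR⟩ := exists_relation_of_height _ (hfib a haB) (show m < fd + c by omega) ta
  obtain ⟨τ, hτ⟩ : ∃ τ : Fin fd → k, eval τ (map (eval a) h' * R) ≠ 0 := by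
    by_contra! h0
    exact mul_ne_zero hh₁ hR0 (MvPolynomial.funext fun v => by rw [h0 v, map_zero])
  rw [map_mul] at hτ
  -- lift the point
  let z₀ : MvPolynomial (Fin fd) A →ₐ[k] k :=
    { eval₂' a τ with
      commutes' := fun c => (eval₂Hom_C (eval a) τ (C c)).trans (eval_C c) }
  obtain ⟨g, hg⟩ := hlift z₀ (fun G hG => by
      have hle : Q.map C ≤ RingHom.ker (eval₂' a τ) := Ideal.map_le_iff_le_comap.2 fun p hp =>
        (eval₂Hom_C (eval a) τ p).trans (haQ p hp)
      exact hle hG)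
    (fun h0 => left_ne_zero_of_mul hτ ((eval_map (eval a) τ h').trans h0))
  let gg : MvPolynomial (Fin m) A →+* k := g.toRingHom.comp (Ideal.Quotient.mk P.asIdeal)
  have hgt : ∀ G, gg (aeval t G) = eval₂' a τ G := fun G => AlgHom.congr_fun hg G
  let y : Fin m → k := fun j => gg (X j)
  have hgg : gg = eval₂' a y := MvPolynomial.ringHom_ext (fun p => by
      have := hgt (C p)
      rw [aeval_C] at this
      exact this.trans ((eval₂Hom_C (eval a) τ p).trans (eval₂Hom_C (eval a) y p).symm))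
    fun j => (eval₂Hom_X' (eval a) y j).symm
  have hmem : (a, y) ∈ Z := hZ _ fun f hf => by
    rw [← hgg]
    show g (Ideal.Quotient.mk P.asIdeal f) = 0
    rw [Ideal.Quotient.eq_zero_iff_mem.2 (hP hf), map_zero]
  have hty : ∀ i, eval y (ta i) = τ i := fun i => by
    have h3 := hgt (X i)
    rw [aeval_X, hgg] at h3
    exact (eval_map (eval a) y (t i)).trans (h3.trans (eval₂Hom_X' (eval a) τ i))
  have := hR y hmem
  rw [show (fun i => eval y (ta i)) = τ from _root_.funext hty] at this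
  exact right_ne_zero_of_mul hτ this

theorem height_comap_le {N m : ℕ} (P : PrimeSpectrum (MvPolynomial (Fin m) (MvPolynomial (Fin N) k))) :
    height (PrimeSpectrum.comap (algebraMap (MvPolynomial (Fin N) k) (MvPolynomial (Fin m) (MvPolynomial (Fin N) k))) P) ≤
      height P := by
  haveI : P.asIdeal.LiesOver (P.asIdeal.under (MvPolynomial (Fin N) k)) := ⟨rfl⟩
  have h := Ideal.height_eq_height_add_of_liesOver_of_hasGoingDown (P.asIdeal.under (MvPolynomial (Fin N) k)) P.asIdeal
  rw [← PrimeSpectrum.height_eq_orderHeight, ← PrimeSpectrum.height_eq_orderHeight]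
  exact (le_self_add).trans h.ge

theorem height_ge_of_fibres [IsAlgClosed k] {N m c : ℕ} (Z : Set ((Fin N → k) × (Fin m → k)))
    (hZ : ∀ z, (∀ f ∈ prodIdeal Z, eval₂' z.1 z.2 f = 0) → z ∈ Z)
    (B : Set (Fin N → k)) (hB : (c : ℕ∞) ≤ (vanishingIdeal k B).height)
    (hfib : ∀ a ∉ B, (c : ℕ∞) ≤ (vanishingIdeal k {y | (a, y) ∈ Z}).height) :
    (c : ℕ∞) ≤ (prodIdeal Z).height := by
  classical
  let A := MvPolynomial (Fin N) k
  refine (le_height_iff _ _).2 fun P hP => ?_
  by_cases hcQ : (c : ℕ∞) ≤ height (PrimeSpectrum.comap (algebraMap A (MvPolynomial (Fin m) A)) P)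
  · exact hcQ.trans (height_comap_le P)
  have hsmall := fd_add_le Z hZ B hfib P hP (by
    by_contra! h
    exact hcQ ((le_height_iff _ _).1 hB _ h))
  have hsmall' : DimFormula.fd A P.asIdeal + c ≤ m := hsmall
  have h1 : (c : ℕ∞) + (DimFormula.fd A P.asIdeal : ℕ) ≤ height P + (DimFormula.fd A P.asIdeal : ℕ) := by
    rw [DimFormula.height_add_fd_mvPolynomial A P]
    refine le_trans ?_ le_add_self
    norm_cast
    omega
  exact (ENat.add_le_add_iff_right (ENat.natCast_ne_top _)).1 h1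

/-- Codimensions add up along a fibration. -/
theorem height_ge_add_of_fibres [IsAlgClosed k] {N m b c : ℕ} (Z : Set ((Fin N → k) × (Fin m → k)))
    (hZ : ∀ z, (∀ f ∈ prodIdeal Z, eval₂' z.1 z.2 f = 0) → z ∈ Z)
    (S : Set (Fin N → k)) (hS : (b : ℕ∞) ≤ (vanishingIdeal k S).height) (hproj : ∀ z ∈ Z, z.1 ∈ S)
    (hfib : ∀ a, (c : ℕ∞) ≤ (vanishingIdeal k {y | (a, y) ∈ Z}).height) :
    ((b + c : ℕ) : ℕ∞) ≤ (prodIdeal Z).height := by
  let A := MvPolynomial (Fin N) k
  refine (le_height_iff _ _).2 fun P hP => ?_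
  have hsmall := fd_add_le Z hZ ∅ (fun a _ => hfib a) P hP ⟨1, fun x hx => absurd hx (Set.notMem_empty x),
    fun h => P.2.ne_top (P.asIdeal.eq_top_iff_one.2 (by simpa using h))⟩
  have hQ : (b : ℕ∞) ≤ height (PrimeSpectrum.comap (algebraMap A (MvPolynomial (Fin m) A)) P) :=
    (le_height_iff _ _).1 hS _ fun f hf => hP fun z hz => by
      have := hf z.1 (hproj z hz)
      rw [aeval_eq_eval] at this
      exact (eval₂Hom_C _ _ f).trans this
  have hsmall' : DimFormula.fd A P.asIdeal + c ≤ m := hsmall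
  have h1 : ((b + c : ℕ) : ℕ∞) + (DimFormula.fd A P.asIdeal : ℕ) ≤ height P + (DimFormula.fd A P.asIdeal : ℕ) := by
    rw [DimFormula.height_add_fd_mvPolynomial A P]
    push_cast
    rw [add_assoc]
    refine add_le_add hQ ?_
    norm_cast
    omega
  exact (ENat.add_le_add_iff_right (ENat.natCast_ne_top _)).1 h1

end Groth.Agent.Incid42
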