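import Groth.Agent.Incid42.Kernel
import Mathlib.Algebra.Order.Antidiag.FinsuppEquiv
import Mathlib.RingTheory.MvPolynomial.Homogeneous
import Mathlib.Data.Finsupp.Weight

/-!
# Forms: finiteness, polynomial families, restriction to linear subspaces
-/

set_option autoImplicit false

universe u

open LefPen MvPolynomial

namespace Groth.Agent.Incid42

variable {k : Type u} [Field k]
variable {V W : Type u} [AddCommGroup V] [Module k V] [AddCommGroup W] [Module k W]

/-- The monomials of degree `d` in `r + 1` variables. -/
abbrev Mon (r d : ℕ) : Type :=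
  {a : Fin (r + 1) →₀ ℕ // a ∈ (Finset.univ : Finset (Fin (r + 1))).finsuppAntidiag d}

theorem mem_mon_iff {r d : ℕ} {a : Fin (r + 1) →₀ ℕ} :
    a ∈ (Finset.univ : Finset (Fin (r + 1))).finsuppAntidiag d ↔ a.degree = d := by
  simp [Finset.mem_finsuppAntidiag, Finsupp.degree_eq_sum]

theorem card_mon (r d : ℕ) : Fintype.card (Mon r d) = Nat.choose (r + d) d := by
  rw [Fintype.card_coe, Finset.card_finsuppAntidiag_nat_eq_choose, Finset.card_univ, Fintype.card_fin]
  congr 1
  omega

variable (k) in
/-- Coefficients of a form. -/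
noncomputable def formEquiv (r d : ℕ) : Form r k d ≃ₗ[k] (Mon r d → k) where
  toFun G a := coeff a.1 G.1
  map_add' G H := funext fun a => by simp
  map_smul' c G := funext fun a => by simp
  invFun q := ⟨∑ a : Mon r d, monomial a.1 (q a), sum_mem fun a _ =>
    (mem_homogeneousSubmodule _ _).2 (isHomogeneous_monomial _ (mem_mon_iff.1 a.2))⟩
  left_inv G := Subtype.ext <| by
    ext e
    simp only [coeff_sum, coeff_monomial]
    by_cases he : e.degree = d
    · rw [Finset.sum_eq_single ⟨e, mem_mon_iff.2 he⟩ (fun b _ hb => if_neg fun h => hb (Subtype.ext h))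
        (fun h => absurd (Finset.mem_univ _) h), if_pos rfl]
    · rw [Finset.sum_eq_zero fun b _ => if_neg fun h : b.1 = e => he (h ▸ mem_mon_iff.1 b.2)]
      exact ((((mem_homogeneousSubmodule _ _).1 G.2)).coeff_eq_zero he).symm
  right_inv q := funext fun a => by
    simp only [coeff_sum, coeff_monomial]
    rw [Finset.sum_eq_single a (fun b _ hb => if_neg fun h => hb (Subtype.ext h))
      (fun h => absurd (Finset.mem_univ _) h), if_pos rfl]

instance finiteDimensional_form (r d : ℕ) : FiniteDimensional k (Form r k d) :=
  (formEquiv k r d).symm.finiteDimensional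

theorem finrank_form (r d : ℕ) : Module.finrank k (Form r k d) = Nat.choose (r + d) d := by
  rw [(formEquiv k r d).finrank_eq, Module.finrank_fintype_fun_eq_card, card_mon]

/-- A polynomial family of polynomials. -/
def IsPolyFamily (k : Type u) [Field k] {W : Type u} [AddCommGroup W] [Module k W] {σ : Type*}
    (F : W → MvPolynomial σ k) : Prop :=
  ∀ e : σ →₀ ℕ, IsPolyFun k (fun w => coeff e (F w))

section Family

variable {σ : Type*} {F G : W → MvPolynomial σ k}

theorem isPolyFamily_const (p : MvPolynomial σ k) : IsPolyFamily k (fun _ : W => p) :=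
  fun _ => isPolyFun_const _

theorem isPolyFamily_C {a : W → k} (ha : IsPolyFun k a) :
    IsPolyFamily k (fun w => (C (a w) : MvPolynomial σ k)) := fun e => by
  classical
  simp only [coeff_C]
  split_ifs
  · exact ha
  · exact isPolyFun_const _

theorem isPolyFamily_add (hF : IsPolyFamily k F) (hG : IsPolyFamily k G) :
    IsPolyFamily k (fun w => F w + G w) := fun e => by
  simpa using isPolyFun_add (hF e) (hG e)

theorem isPolyFamily_mul (hF : IsPolyFamily k F) (hG : IsPolyFamily k G) :
    IsPolyFamily k (fun w => F w * G w) := fun e => by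
  classical
  simp only [coeff_mul]
  exact isPolyFun_sum _ _ fun x _ => isPolyFun_mul (hF _) (hG _)

theorem isPolyFamily_sum {ι : Type*} (s : Finset ι) (H : ι → W → MvPolynomial σ k)
    (h : ∀ i ∈ s, IsPolyFamily k (H i)) : IsPolyFamily k (fun w => ∑ i ∈ s, H i w) := fun e => by
  simp only [coeff_sum]
  exact isPolyFun_sum _ _ fun i hi => h i hi e

theorem isPolyFamily_aeval {τ : Type*} (L : τ → W → MvPolynomial σ k)
    (hL : ∀ a, IsPolyFamily k (L a)) (p : MvPolynomial τ k) :
    IsPolyFamily k (fun w => aeval (fun a => L a w) p) := by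
  induction p using MvPolynomial.induction_on with
  | C a => simpa using isPolyFamily_const (W := W) (C a : MvPolynomial σ k)
  | add p q hp hq => simp only [map_add]; exact isPolyFamily_add hp hq
  | mul_X p a hp => simp only [map_mul, aeval_X]; exact isPolyFamily_mul hp (hL a)

end Family

section Restrict

variable {n d m : ℕ}

/-- The linear forms of a frame. -/
noncomputable def frameForms (e : Fin (m + 1) → Fin (n + 1) → k) (a : Fin (n + 1)) :
    MvPolynomial (Fin (m + 1)) k :=
  ∑ i, C (e i a) * X i

theorem isHomogeneous_frameForms (e : Fin (m + 1) → Fin (n + 1) → k) (a : Fin (n + 1)) :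
    (frameForms e a).IsHomogeneous 1 :=
  IsHomogeneous.sum _ _ _ fun _ _ => (isHomogeneous_X _ _).C_mul _

theorem eval_frameForms (e : Fin (m + 1) → Fin (n + 1) → k) (c : Fin (m + 1) → k) :
    (fun a => eval c (frameForms e a)) = ∑ i, c i • e i := funext fun a => by
  simp [frameForms, Finset.sum_apply, mul_comm]

/-- Restriction of a form to the subspace spanned by a frame, as a form. -/
noncomputable def restrictTo (e : Fin (m + 1) → Fin (n + 1) → k) : Form n k d →ₗ[k] Form m k d where
  toFun G := ⟨aeval (frameForms e) G.1, (mem_homogeneousSubmodule _ _).2 <| by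
    simpa using ((mem_homogeneousSubmodule _ _).1 G.2).aeval (frameForms e)
      (isHomogeneous_frameForms e)⟩
  map_add' G H := Subtype.ext (by simp)
  map_smul' c G := Subtype.ext (by simp)

theorem eval_restrictTo (e : Fin (m + 1) → Fin (n + 1) → k) (G : Form n k d) (c : Fin (m + 1) → k) :
    eval c (restrictTo e G).1 = eval (∑ i, c i • e i) G.1 := by
  rw [← eval_frameForms]
  exact eval_aeval _ _ _

theorem restrictTo_eq_zero_iff [Infinite k] (e : Fin (m + 1) → Fin (n + 1) → k) (G : Form n k d) :
    restrictTo e G = 0 ↔ ∀ u ∈ Submodule.span k (Set.range e), eval u G.1 = 0 := by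
  constructor
  · intro h u hu
    obtain ⟨c, rfl⟩ := (Submodule.mem_span_range_iff_exists_fun k).1 hu
    rw [← eval_restrictTo, h]
    simp
  · intro h
    refine Subtype.ext (MvPolynomial.funext fun c => ?_)
    rw [eval_restrictTo, h _ (sum_mem fun i _ => Submodule.smul_mem _ _ (Submodule.subset_span ⟨i, rfl⟩))]
    simp

/-- Affine chart of the Grassmannian. -/
abbrev Chart (k : Type u) (c : Fin (m + 1) → Fin (n + 1)) : Type u :=
  Fin (m + 1) → {j : Fin (n + 1) // j ∉ Set.range c} → k

/-- The frame of a chart point. -/
noncomputable def chartFrame (c : Fin (m + 1) → Fin (n + 1)) (w : Chart k c) (i : Fin (m + 1)) :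
    Fin (n + 1) → k :=
  fun a => if h : a ∈ Set.range c then (if a = c i then 1 else 0) else w i ⟨a, h⟩

theorem isPolyFun_chartFrame (c : Fin (m + 1) → Fin (n + 1)) (i : Fin (m + 1)) (a : Fin (n + 1)) :
    IsPolyFun k (fun w : Chart k c => chartFrame c w i a) := by
  unfold chartFrame
  by_cases h : a ∈ Set.range c
  · simp only [dif_pos h]
    exact isPolyFun_const _
  · simp only [dif_neg h]
    exact isPolyFun_linear ((LinearMap.proj (⟨a, h⟩ : {j : Fin (n + 1) // j ∉ Set.range c})).comp
      (LinearMap.proj (R := k) (φ := fun _ : Fin (m + 1) => {j : Fin (n + 1) // j ∉ Set.range c} → k) i))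

theorem chartFrame_apply_self {c : Fin (m + 1) → Fin (n + 1)} (hc : Function.Injective c)
    (w : Chart k c) (i j : Fin (m + 1)) : chartFrame c w i (c j) = if j = i then 1 else 0 := by
  rw [chartFrame, dif_pos ⟨j, rfl⟩]
  simp only [hc.eq_iff]

theorem sum_chartFrame_apply {c : Fin (m + 1) → Fin (n + 1)} (hc : Function.Injective c)
    (w : Chart k c) (x : Fin (m + 1) → k) (j : Fin (m + 1)) :
    (∑ i, x i • chartFrame c w i) (c j) = x j := by
  simp [Finset.sum_apply, chartFrame_apply_self hc]

theorem linearIndependent_chartFrame {c : Fin (m + 1) → Fin (n + 1)} (hc : Function.Injective c)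
    (w : Chart k c) : LinearIndependent k (chartFrame c w) :=
  Fintype.linearIndependent_iff.2 fun x hx j => by
    rw [← sum_chartFrame_apply hc w x j, hx]
    rfl

theorem chartFrame_injective (c : Fin (m + 1) → Fin (n + 1)) :
    Function.Injective (chartFrame (k := k) c) := fun w w' h => funext fun i => funext fun a => by
  have := congrFun (congrFun h i) a.1
  simp only [chartFrame, dif_neg a.2] at this
  exact this

/-- The restriction to a chart point is onto. -/
theorem surjective_restrictTo_chart {c : Fin (m + 1) → Fin (n + 1)} (hc : Function.Injective c)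
    (w : Chart k c) : Function.Surjective (restrictTo (d := d) (chartFrame c w)) := fun q => by
  refine ⟨⟨rename c q.1, (mem_homogeneousSubmodule _ _).2
    ((mem_homogeneousSubmodule _ _).1 q.2).rename_isHomogeneous⟩, Subtype.ext ?_⟩
  show aeval (frameForms (chartFrame c w)) (rename c q.1) = q.1
  rw [aeval_rename]
  have : frameForms (chartFrame c w) ∘ c = X := funext fun i => by
    simp [frameForms, chartFrame_apply_self hc]
  rw [this, aeval_X_left_apply]

/-- Every subspace lies in a chart. -/
theorem exists_chart (U : Submodule k (Fin (n + 1) → k)) (hU : Module.finrank k ↥U = m + 1) :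
    ∃ (c : Fin (m + 1) → Fin (n + 1)) (w : Chart k c),
      Function.Injective c ∧ Submodule.span k (Set.range (chartFrame c w)) = U := by
  classical
  let b := Module.finBasisOfFinrankEq k ↥U hU
  let col : Fin (n + 1) → Fin (m + 1) → k := fun a i => (b i).1 a
  have hker : ∀ (S : Set (Fin (n + 1))) (u : ↥U), (∀ a ∈ S, u.1 a = 0) →
      ∀ a, col a ∈ Submodule.span k (col '' S) → u.1 a = 0 := by
    intro S u hu a ha
    let φ : (Fin (m + 1) → k) →ₗ[k] k := ∑ i, b.equivFun u i • LinearMap.proj i
    have hφ : ∀ a, φ (col a) = u.1 a := fun a => by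
      refine Eq.trans ?_ (congrArg (fun v : ↥U => v.1 a) (b.sum_equivFun u))
      simp only [φ, col, LinearMap.sum_apply, LinearMap.smul_apply, LinearMap.proj_apply, smul_eq_mul,
        Submodule.coe_sum, Submodule.coe_smul, Finset.sum_apply, Pi.smul_apply]
    have hle : Submodule.span k (col '' S) ≤ LinearMap.ker φ :=
      Submodule.span_le.2 (by rintro _ ⟨a, ha, rfl⟩; exact (hφ a).trans (hu a ha))
    rw [← hφ]
    exact hle ha
  obtain ⟨κ, a, ha, hsp, hli⟩ := exists_linearIndependent' k col
  have : Finite κ := Finite.of_injective a ha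
  cases nonempty_fintype κ
  let π₀ : ↥U →ₗ[k] (κ → k) := LinearMap.funLeft k k a ∘ₗ U.subtype
  have hπ₀ : Function.Injective π₀ := by
    rw [← LinearMap.ker_eq_bot, LinearMap.ker_eq_bot']
    intro u hu
    refine Subtype.ext (funext fun x => hker (Set.range a) u ?_ x ?_)
    · rintro _ ⟨i, rfl⟩
      exact congrFun hu i
    · rw [← Set.range_comp, hsp]
      exact Submodule.subset_span ⟨x, rfl⟩
  have hcard : Fintype.card κ = Fintype.card (Fin (m + 1)) := by
    refine le_antisymm ?_ ?_
    · simpa using hli.fintype_card_le_finrank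
    · have := LinearMap.finrank_le_finrank_of_injective hπ₀
      simpa [hU] using this
  let σ : Fin (m + 1) ≃ κ := (Fintype.equivOfCardEq hcard).symm
  let c := a ∘ σ
  have hc : Function.Injective c := ha.comp σ.injective
  let π : ↥U →ₗ[k] (Fin (m + 1) → k) := LinearMap.funLeft k k c ∘ₗ U.subtype
  have hπ : Function.Injective π := fun u v huv => hπ₀ (funext fun i => by
    have := congrFun huv (σ.symm i)
    simpa [π, π₀, c, LinearMap.funLeft_apply] using this)
  have hsurj : Function.Surjective π :=
    (LinearMap.injective_iff_surjective_of_finrank_eq_finrank (by rw [hU]; simp)).1 hπ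
  choose u hu using fun i : Fin (m + 1) => hsurj (Pi.single i 1)
  refine ⟨c, fun i a => (u i).1 a.1, hc, ?_⟩
  have he : chartFrame c (fun i a => (u i).1 a.1) = fun i => (u i).1 := funext fun i => funext fun x => by
    by_cases hx : x ∈ Set.range c
    · obtain ⟨j, rfl⟩ := hx
      rw [chartFrame_apply_self hc]
      rw [show (u i).1 (c j) = π (u i) j from rfl, hu, Pi.single_apply]
    · simp only [chartFrame, dif_neg hx]
  refine Submodule.eq_of_le_of_finrank_eq (Submodule.span_le.2 ?_) ?_
  · rintro _ ⟨i, rfl⟩
    rw [he]
    exact (u i).2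
  · rw [finrank_span_eq_card (linearIndependent_chartFrame hc _), Fintype.card_fin, hU]

theorem finrank_chart {c : Fin (m + 1) → Fin (n + 1)} (hc : Function.Injective c) :
    Module.finrank k (Chart k c) = (m + 1) * (n - m) := by
  classical
  rw [Module.finrank_pi_fintype, Finset.sum_const, Finset.card_univ, Fintype.card_fin, smul_eq_mul,
    Module.finrank_fintype_fun_eq_card, Fintype.card_subtype_compl, Fintype.card_fin]
  congr 1
  rw [show Fintype.card {x // x ∈ Set.range c} = m + 1 by
    rw [← Fintype.card_congr (Equiv.ofInjective c hc), Fintype.card_fin]]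
  omega

/-- The equations saying that the subspace of a chart point lies on the hypersurface. -/
noncomputable def chartEqns (c : Fin (m + 1) → Fin (n + 1)) (d : ℕ) (w : Chart k c) :
    Form n k d →ₗ[k] (Mon m d → k) :=
  (formEquiv k m d).toLinearMap ∘ₗ restrictTo (chartFrame c w)

theorem isPolyFun_chartEqns (c : Fin (m + 1) → Fin (n + 1)) (d : ℕ) (G : Form n k d) (e : Mon m d) :
    IsPolyFun k (fun w : Chart k c => chartEqns c d w G e) :=
  isPolyFamily_aeval (fun a w => frameForms (chartFrame c w) a)
    (fun a => isPolyFamily_sum _ _ fun i _ => isPolyFamily_mul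
      (isPolyFamily_C (isPolyFun_chartFrame c i a)) (isPolyFamily_const _)) G.1 e.1

theorem surjective_chartEqns {c : Fin (m + 1) → Fin (n + 1)} (hc : Function.Injective c) (d : ℕ)
    (w : Chart k c) : Function.Surjective (chartEqns c d w) :=
  (formEquiv k m d).surjective.comp (surjective_restrictTo_chart hc w)

theorem chartEqns_eq_zero_iff [Infinite k] (c : Fin (m + 1) → Fin (n + 1)) (d : ℕ) (w : Chart k c)
    (G : Form n k d) :
    chartEqns c d w G = 0 ↔
      ∀ u ∈ Submodule.span k (Set.range (chartFrame c w)), eval u G.1 = 0 := by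
  rw [← restrictTo_eq_zero_iff, chartEqns, LinearMap.comp_apply]
  exact (formEquiv k m d).map_eq_zero_iff

end Restrict

end Groth.Agent.Incid42
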