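import Groth.Agent.Incid42.Poly
import Mathlib.LinearAlgebra.Matrix.Adjugate
import Mathlib.LinearAlgebra.LinearIndependent.Lemmas
import Mathlib.LinearAlgebra.Matrix.NonsingularInverse

/-!
# Incidence counting for a family of linear systems

`A w : V → k^ι` is linear and depends polynomially on `w ∈ W`.  The incidence `{(w, v) | A w v = 0}`
over the `w` with `A w` surjective has dimension `dim W + dim V - |ι|`.
-/

set_option autoImplicit false

universe u

open LefPen MvPolynomial Matrix

namespace Groth.Agent.Incid42

variable {k : Type u} [Field k]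
variable {V W : Type u} [AddCommGroup V] [Module k V] [AddCommGroup W] [Module k W]
variable {ι : Type} [Fintype ι] [DecidableEq ι] {M : ℕ}

/-- Coordinates away from the chosen columns, as a vector of `V`. -/
noncomputable def embCompl (b : Module.Basis (Fin M) k V) (c : ι → Fin M) :
    ({j : Fin M // j ∉ Set.range c} → k) →ₗ[k] V :=
  Fintype.linearCombination k fun j => b j.1

/-- The chosen square submatrix of `A w`. -/
noncomputable def minor (A : W → V →ₗ[k] (ι → k)) (b : Module.Basis (Fin M) k V) (c : ι → Fin M)
    (w : W) : Matrix ι ι k :=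
  Matrix.of fun i j => A w (b (c j)) i

/-- Cramer parametrisation of the kernel of `A w`. -/
noncomputable def cramer (A : W → V →ₗ[k] (ι → k)) (b : Module.Basis (Fin M) k V) (c : ι → Fin M)
    (p : W × ({j : Fin M // j ∉ Set.range c} → k)) : V :=
  (minor A b c p.1).det • embCompl b c p.2 -
    ∑ i, ((minor A b c p.1).adjugate *ᵥ A p.1 (embCompl b c p.2)) i • b (c i)

variable {A : W → V →ₗ[k] (ι → k)}

theorem isPolyMap_cramer (hA : ∀ v i, IsPolyFun k (fun w => A w v i))
    (b : Module.Basis (Fin M) k V) (c : ι → Fin M) : IsPolyMap k (cramer A b c) := by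
  classical
  let P := ({j : Fin M // j ∉ Set.range c} → k)
  have hfst : IsPolyMap k (fun p : W × P => p.1) := isPolyMap_linear (LinearMap.fst k W P)
  have hm : ∀ i j, IsPolyFun k (fun p : W × P => minor A b c p.1 i j) := fun i j =>
    isPolyFun_comp (f := fun w => A w (b (c j)) i) (hA _ i) hfst
  have he : ∀ i, IsPolyFun k (fun p : W × P => A p.1 (embCompl b c p.2) i) := fun i => by
    have : (fun p : W × P => A p.1 (embCompl b c p.2) i) =
        fun p => ∑ j, p.2 j * A p.1 (b j.1) i := funext fun p => by
      simp [embCompl, Fintype.linearCombination_apply, Finset.sum_apply]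
    rw [this]
    exact isPolyFun_sum _ _ fun j _ => isPolyFun_mul
      (isPolyFun_linear ((LinearMap.proj j).comp (LinearMap.snd k W P)))
      (isPolyFun_comp (f := fun w => A w (b j.1) i) (hA _ i) hfst)
  refine isPolyMap_sub (isPolyMap_smul (isPolyFun_det _ hm)
    (isPolyMap_linear ((embCompl b c).comp (LinearMap.snd k W P)))) (isPolyMap_sum _ _ fun i _ =>
      isPolyMap_smul ?_ (isPolyMap_const _))
  simp only [Matrix.mulVec, dotProduct]
  exact isPolyFun_sum _ _ fun j _ => isPolyFun_mul (isPolyFun_adjugate _ hm i j) (he j)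

omit [AddCommGroup W] [Module k W] in
/-- Every solution with non-vanishing minor is in the image of the parametrisation. -/
theorem exists_cramer_eq {b : Module.Basis (Fin M) k V} {c : ι → Fin M} (hc : Function.Injective c)
    {w : W} (hdet : (minor A b c w).det ≠ 0) {v : V} (hv : A w v = 0) :
    ∃ u, cramer A b c (w, u) = v := by
  classical
  set B := minor A b c w with hB
  set x : ι → k := fun i => b.repr v (c i)
  set e : {j : Fin M // j ∉ Set.range c} → k := fun j => B.det⁻¹ * b.repr v j.1
  refine ⟨e, ?_⟩
  have he : embCompl b c e = B.det⁻¹ • (v - ∑ i, x i • b (c i)) := by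
    have h1 : v - ∑ i, x i • b (c i) = ∑ j : {j // j ∉ Set.range c}, b.repr v j.1 • b j.1 := by
      rw [sub_eq_iff_eq_add']
      conv_lhs => rw [← b.sum_repr v]
      rw [← Finset.sum_subtype (Finset.univ.image c)ᶜ (by simp) (fun j => b.repr v j • b j),
        ← Finset.sum_image (f := fun j => b.repr v j • b j) (fun a _ a' _ h => hc h),
        Finset.sum_add_sum_compl]
    rw [h1, Finset.smul_sum]
    simp [embCompl, Fintype.linearCombination_apply, e, smul_smul]
  have hA' : A w (embCompl b c e) = -(B.det⁻¹) • (B *ᵥ x) := by
    rw [he, map_smul, map_sub, hv, zero_sub, smul_neg, neg_smul]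
    congr 2
    funext i
    simp [map_sum, B, minor, Matrix.mulVec, dotProduct, Finset.sum_apply, mul_comm]
  have hadj : B.adjugate *ᵥ A w (embCompl b c e) = -x := by
    rw [hA', Matrix.mulVec_smul, Matrix.mulVec_mulVec, Matrix.adjugate_mul, Matrix.smul_mulVec,
      Matrix.one_mulVec, smul_smul, neg_mul, inv_mul_cancel₀ hdet, neg_one_smul]
  show B.det • embCompl b c e - ∑ i, (B.adjugate *ᵥ A w (embCompl b c e)) i • b (c i) = v
  rw [hadj, he, smul_smul, mul_inv_cancel₀ hdet, one_smul]
  simp [Finset.sum_neg_distrib]

omit [AddCommGroup W] [Module k W] in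
/-- A surjective map has a non-vanishing minor. -/
theorem exists_minor_ne_zero (b : Module.Basis (Fin M) k V) {w : W} (hs : Function.Surjective (A w)) :
    ∃ c : ι → Fin M, Function.Injective c ∧ (minor A b c w).det ≠ 0 := by
  classical
  have hspan : Submodule.span k (Set.range fun j => A w (b j)) = ⊤ := by
    rw [show (fun j => A w (b j)) = A w ∘ b from rfl, Set.range_comp, ← Submodule.map_span, b.span_eq,
      Submodule.map_top, LinearMap.range_eq_top.2 hs]
  obtain ⟨κ, a, ha, hsp, hli⟩ := exists_linearIndependent' k (fun j => A w (b j))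
  rw [hspan] at hsp
  let B := Module.Basis.mk hli hsp.ge
  have : Finite κ := Finite.of_injective a ha
  cases nonempty_fintype κ
  have hcard : Fintype.card κ = Fintype.card ι := by
    rw [← Module.finrank_eq_card_basis B, Module.finrank_fintype_fun_eq_card]
  let σ : ι ≃ κ := (Fintype.equivOfCardEq hcard).symm
  refine ⟨a ∘ σ, ha.comp σ.injective, ?_⟩
  have hli' : LinearIndependent k (fun j : ι => A w (b (a (σ j)))) := hli.comp σ σ.injective
  refine ((Matrix.isUnit_iff_isUnit_det _).1 ?_).ne_zero
  rw [← Matrix.linearIndependent_cols_iff_isUnit]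
  exact hli'

variable [Infinite k] [FiniteDimensional k V] [FiniteDimensional k W]

theorem finrank_params (c : ι → Fin M) (hc : Function.Injective c) :
    Module.finrank k (W × ({j : Fin M // j ∉ Set.range c} → k)) + Fintype.card ι =
      Module.finrank k W + M := by
  classical
  rw [Module.finrank_prod, Module.finrank_fintype_fun_eq_card, Fintype.card_subtype_compl,
    Fintype.card_fin]
  have h1 : Fintype.card ι = Fintype.card {x // x ∈ Set.range c} :=
    Fintype.card_congr (Equiv.ofInjective c hc)
  have h2 := Fintype.card_le_of_injective c hc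
  rw [Fintype.card_fin] at h2
  omega

/-- Fewer parameters than equations: a general `v` solves none of the systems. -/
theorem isGeneric_forall_ne_zero (hA : ∀ v i, IsPolyFun k (fun w => A w v i))
    (h : Module.finrank k W < Fintype.card ι) :
    IsGeneric k {v | ∀ w, Function.Surjective (A w) → A w v ≠ 0} := by
  classical
  let b := Module.finBasis k V
  have hi : ∀ c : {c : ι → Fin (Module.finrank k V) // Function.Injective c},
      IsGeneric k {v | v ∉ Set.range (cramer A b c.1)} := fun c => by
    refine isGeneric_notMem_range (isPolyMap_cramer hA b c.1) ?_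
    have := finrank_params (k := k) (W := W) c.1 c.2
    omega
  refine isGeneric_mono (isGeneric_iInter hi) fun v hv w hs hw => ?_
  obtain ⟨c, hc, hdet⟩ := exists_minor_ne_zero b hs
  obtain ⟨u, hu⟩ := exists_cramer_eq hc hdet hw
  exact Set.mem_iInter.1 hv ⟨c, hc⟩ ⟨_, hu⟩

/-- As many parameters as equations: a general `v` solves finitely many of the systems. -/
theorem isGeneric_finite_solutions (hA : ∀ v i, IsPolyFun k (fun w => A w v i))
    (h : Module.finrank k W ≤ Fintype.card ι) :
    IsGeneric k {v | {w | Function.Surjective (A w) ∧ A w v = 0}.Finite} := by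
  classical
  let b := Module.finBasis k V
  have hi : ∀ c : {c : ι → Fin (Module.finrank k V) // Function.Injective c},
      IsGeneric k {v | {p | cramer A b c.1 p = v}.Finite} := fun c => by
    refine isGeneric_finite_fibre (isPolyMap_cramer hA b c.1) ?_
    have := finrank_params (k := k) (W := W) c.1 c.2
    omega
  refine isGeneric_mono (isGeneric_iInter hi) fun v hv => ?_
  refine (Set.finite_iUnion fun c => (Set.mem_iInter.1 hv c).image Prod.fst).subset ?_
  rintro w ⟨hs, hw⟩
  obtain ⟨c, hc, hdet⟩ := exists_minor_ne_zero b hs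
  obtain ⟨u, hu⟩ := exists_cramer_eq hc hdet hw
  exact Set.mem_iUnion.2 ⟨⟨c, hc⟩, (w, u), hu, rfl⟩

end Groth.Agent.Incid42
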