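import Groth.Agent.Incid42.CiDim

/-!
# The lines through the points of a general hypersurface
-/

set_option autoImplicit false

universe u

open LefPen MvPolynomial Order

namespace Groth.Agent.Incid42

variable {k : Type u} [Field k]
variable {m d : ℕ}

/-- A map into a product is polynomial when its components are. -/
theorem isPolyMap_formTuple {W : Type u} [AddCommGroup W] [Module k W] {ι : Type} [Fintype ι] {e : ι → ℕ}
    (ψ : W → (j : ι) → Form m k (e j)) (h : ∀ j, IsPolyFamily k fun w => (ψ w j).1) : IsPolyMap k ψ := by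
  classical
  have heq : ψ = fun w => ∑ j, ∑ a : Mon m (e j),
      coeff a.1 (ψ w j).1 • Pi.single j ((formEquiv k m (e j)).symm (Pi.single a 1)) := _root_.funext fun w => by
    conv_lhs => rw [← Finset.univ_sum_single (ψ w)]
    refine Finset.sum_congr rfl fun j _ => ?_
    conv_lhs => rw [← (formEquiv k m (e j)).symm_apply_apply (ψ w j), pi_eq_sum_univ' (formEquiv k m (e j) (ψ w j))]
    rw [map_sum]
    have hs : ∀ (s : Finset (Mon m (e j))) (f : Mon m (e j) → Form m k (e j)),
        (Pi.single j (∑ a ∈ s, f a) : (j : ι) → Form m k (e j)) = ∑ a ∈ s, Pi.single j (f a) := fun s f =>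
      map_sum (LinearMap.single k (fun j => Form m k (e j)) j) f s
    rw [hs]
    refine Finset.sum_congr rfl fun a _ => ?_
    rw [map_smul]
    exact map_smul (LinearMap.single k (fun j => Form m k (e j)) j) _ _
  rw [heq]
  exact isPolyMap_sum _ _ fun j _ => isPolyMap_sum _ _ fun a _ =>
    isPolyMap_smul (h j a.1) (isPolyMap_const _)

/-- The equation of `G` in the affine chart centred at `u`. -/
noncomputable def localPoly (i : Fin (m + 2)) (u : Fin (m + 1) → k) :
    MvPolynomial (Fin (m + 2)) k →ₐ[k] MvPolynomial (Fin (m + 1)) k :=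
  aeval (Fin.insertNth i 1 fun a => C (u a) + X a)

theorem eval_localPoly (i : Fin (m + 2)) (u y : Fin (m + 1) → k) (G : MvPolynomial (Fin (m + 2)) k) :
    eval y (localPoly i u G) = eval (Fin.insertNth i 1 fun a => u a + y a) G := by
  rw [localPoly, eval_aeval]
  congr 2
  funext x
  induction x using Fin.succAboveCases i with
  | x => simp
  | p a => simp

/-- The homogeneous parts of the local equation. -/
noncomputable def localTuple (i : Fin (m + 2)) (u : Fin (m + 1) → k) :
    Form (m + 1) k d →ₗ[k] ((j : Fin d) → Form m k (j.1 + 1)) × k :=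
  LinearMap.prod
    (LinearMap.pi fun j : Fin d => LinearMap.codRestrict _
      ((homogeneousComponent (j.1 + 1)).comp ((localPoly i u).toLinearMap.comp (Submodule.subtype _)))
      fun G => (mem_homogeneousSubmodule _ _).2 (homogeneousComponent_isHomogeneous _ _))
    ((lcoeff k 0).comp ((localPoly i u).toLinearMap.comp (Submodule.subtype _)))

theorem localTuple_fst (i : Fin (m + 2)) (u : Fin (m + 1) → k) (G : Form (m + 1) k d) (j : Fin d) :
    ((localTuple i u G).1 j).1 = homogeneousComponent (j.1 + 1) (localPoly i u G.1) := rfl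

theorem localTuple_snd (i : Fin (m + 2)) (u : Fin (m + 1) → k) (G : Form (m + 1) k d) :
    (localTuple i u G).2 = eval (Fin.insertNth i 1 u) G.1 := by
  show coeff 0 (localPoly i u G.1) = _
  rw [← constantCoeff_eq, ← eval_zero, eval_localPoly]
  simp

theorem surjective_localTuple (i : Fin (m + 2)) (u : Fin (m + 1) → k) :
    Function.Surjective (localTuple (d := d) i u) := by
  classical
  rintro ⟨H, c⟩
  let ρ : MvPolynomial (Fin (m + 1)) k →ₐ[k] MvPolynomial (Fin (m + 2)) k :=
    aeval fun a => X (i.succAbove a) - C (u a) * X i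
  have hρ : ∀ (j : ℕ) (F : MvPolynomial (Fin (m + 1)) k), F.IsHomogeneous j → (ρ F).IsHomogeneous j := fun j F hF => by
    have := hF.aeval (fun a => (X (i.succAbove a) - C (u a) * X i : MvPolynomial (Fin (m + 2)) k))
      fun a => (isHomogeneous_X k _).sub ((isHomogeneous_X k i).C_mul _)
    rwa [one_mul] at this
  have hinv : ∀ F : MvPolynomial (Fin (m + 1)) k, localPoly i u (ρ F) = F := fun F => by
    rw [← AlgHom.comp_apply, comp_aeval]
    conv_rhs => rw [← aeval_X_left_apply F]
    congr 2
    funext a
    simp [localPoly]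
  have hXi : localPoly i u (X i) = 1 := by simp [localPoly]
  let Φ : MvPolynomial (Fin (m + 2)) k := C c * X i ^ d + ∑ j : Fin d, X i ^ (d - (j.1 + 1)) * ρ (H j).1
  have hΦ : Φ.IsHomogeneous d := by
    refine IsHomogeneous.add ((by simpa using (isHomogeneous_X k i).pow d : (X i ^ d : MvPolynomial (Fin (m + 2)) k).IsHomogeneous d).C_mul c)
      (IsHomogeneous.sum _ _ _ fun j _ => ?_)
    have h1 : (X i ^ (d - (j.1 + 1)) : MvPolynomial (Fin (m + 2)) k).IsHomogeneous (d - (j.1 + 1)) := by
      simpa using (isHomogeneous_X k i).pow (d - (j.1 + 1))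
    have := h1.mul (hρ _ _ ((mem_homogeneousSubmodule _ _).1 (H j).2))
    rwa [Nat.sub_add_cancel (by omega)] at this
  have hloc : localPoly i u Φ = C c + ∑ j : Fin d, (H j).1 := by
    simp only [Φ, map_add, map_mul, map_pow, map_sum, hXi, hinv, one_pow, one_mul, mul_one]
    simp [localPoly]
  refine ⟨⟨Φ, (mem_homogeneousSubmodule _ _).2 hΦ⟩, Prod.ext (_root_.funext fun j => Subtype.ext ?_) ?_⟩
  · rw [localTuple_fst]
    show homogeneousComponent (j.1 + 1) (localPoly i u Φ) = _
    rw [hloc, map_add, map_sum, homogeneousComponent_of_mem ((mem_homogeneousSubmodule _ _).2 (isHomogeneous_C _ c)),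
      if_neg (by omega), zero_add,
      Finset.sum_eq_single j, homogeneousComponent_of_mem (H j).2, if_pos rfl]
    · intro b _ hb
      rw [homogeneousComponent_of_mem (H b).2, if_neg]
      exact fun h => hb (Fin.ext (by omega))
    · exact fun h => absurd (Finset.mem_univ _) h
  · show coeff 0 (localPoly i u Φ) = c
    rw [hloc, coeff_add, coeff_zero_C, coeff_sum, Finset.sum_eq_zero, add_zero]
    intro j _
    exact ((mem_homogeneousSubmodule _ _).1 (H j).2).coeff_eq_zero (by simp)

theorem isPolyFamily_localPoly_const {W : Type u} [AddCommGroup W] [Module k W] (i : Fin (m + 2))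
    (φ : W →ₗ[k] (Fin (m + 1) → k)) (p : MvPolynomial (Fin (m + 2)) k) :
    IsPolyFamily k fun q : W => localPoly i (φ q) p := by
  refine isPolyFamily_aeval (fun x (q : W) =>
    (Fin.insertNth i 1 (fun a => C (φ q a) + X a) : Fin (m + 2) → MvPolynomial (Fin (m + 1)) k) x) (fun x => ?_) p
  induction x using Fin.succAboveCases i with
  | x =>
    simp only [Fin.insertNth_apply_same]
    exact isPolyFamily_const _
  | p a =>
    simp only [Fin.insertNth_apply_succAbove]
    exact isPolyFamily_add (isPolyFamily_C (isPolyFun_linear ((LinearMap.proj a).comp φ))) (isPolyFamily_const _)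

theorem isPolyFamily_localPoly (i : Fin (m + 2)) :
    IsPolyFamily k fun q : (Fin (m + 1) → k) × Form (m + 1) k d => localPoly i q.1 q.2.1 := by
  classical
  have heq : (fun q : (Fin (m + 1) → k) × Form (m + 1) k d => localPoly i q.1 q.2.1) = fun q =>
      ∑ a : Mon (m + 1) d, C (coeff a.1 q.2.1) * localPoly i q.1 (monomial a.1 1) := _root_.funext fun q => by
    conv_lhs => rw [← (formEquiv k (m + 1) d).symm_apply_apply q.2]
    show localPoly i q.1 (∑ a : Mon (m + 1) d, monomial a.1 (coeff a.1 q.2.1)) = _
    rw [map_sum]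
    refine Finset.sum_congr rfl fun a _ => ?_
    rw [show monomial a.1 (coeff a.1 q.2.1) = C (coeff a.1 q.2.1) * monomial a.1 (1 : k) by
      rw [C_mul_monomial, mul_one], map_mul]
    simp [localPoly]
  rw [heq]
  refine isPolyFamily_sum _ _ fun a _ => isPolyFamily_mul (isPolyFamily_C ?_) ?_
  · exact isPolyFun_linear ((lcoeff k a.1).comp
      ((Submodule.subtype (CohB1.polyGrading (m + 1) k d)).comp (LinearMap.snd k (Fin (m + 1) → k) _)))
  · exact isPolyFamily_localPoly_const i (LinearMap.fst k (Fin (m + 1) → k) (Form (m + 1) k d)) _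

/-- The forms and centres at which too many lines pass. -/
def badIncidence (k : Type u) [Field k] (m d : ℕ) (i : Fin (m + 2)) :
    Set ((Fin (m + 1) → k) × Form (m + 1) k d) :=
  {q | (localTuple i q.1 q.2).1 ∈ bigLocus k m d (m + 1 - d) ∧ (localTuple i q.1 q.2).2 = 0}

theorem isGeneric_good [IsAlgClosed k] (hdm : d ≤ m) (i : Fin (m + 2)) :
    IsGeneric k {Φ : Form (m + 1) k d | ∀ u, (u, Φ) ∉ badIncidence k m d i} := by
  classical
  have hclosed : IsZOpen k (badIncidence k m d i)ᶜ := by
    intro q hq
    simp only [badIncidence, Set.mem_compl_iff, Set.mem_setOf_eq, not_and_or] at hq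
    rcases hq with hq | hq
    · obtain ⟨f, hf, hfq, hsub⟩ := isZOpen_compl_bigLocus (k := k) (m := m) (j := d) _ _ hq
      refine ⟨fun p => f (localTuple i p.1 p.2).1, isPolyFun_comp hf (isPolyMap_formTuple _ fun j e => ?_), hfq,
        fun p hp hmem => hsub _ hp hmem.1⟩
      simp only [localTuple_fst, coeff_homogeneousComponent]
      split_ifs
      · exact isPolyFamily_localPoly i e
      · exact isPolyFun_const _
    · exact ⟨fun p => (localTuple i p.1 p.2).2, isPolyFamily_localPoly i 0, hq, fun p hp hmem => hp hmem.2⟩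
  refine isGeneric_of_codimGE (c := m + 2) ?_ (by simp)
  refine codimGE_of_fibres hclosed ∅ (codimGE_empty _) fun u _ => ?_
  refine codimGE_preimage (localTuple (d := d) i u) (surjective_localTuple i u)
    (D := {p | p.1 ∈ bigLocus k m d (m + 1 - d) ∧ p.2 = 0}) ?_
  refine codimGE_add_of_fibres (fun p hp => ?_) (bigLocus k m d (m + 1 - d)) (b := m + 1) (c := 1)
    (codimGE_bigLocus d hdm) (fun p hp => hp.1) fun w => ?_
  · simp only [Set.mem_compl_iff, Set.mem_setOf_eq, not_and_or] at hp
    rcases hp with hp | hp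
    · obtain ⟨f, hf, hfp, hsub⟩ := isZOpen_compl_bigLocus (k := k) (m := m) (j := d) _ _ hp
      exact ⟨fun q => f q.1, isPolyFun_comp (ψ := Prod.fst) hf
        (fun l => isPolyFun_linear (l.comp (LinearMap.fst k _ k))), hfp, fun q hq hmem => hsub _ hq hmem.1⟩
    · exact ⟨fun q => LinearMap.snd k ((j : Fin d) → Form m k (j.1 + 1)) k q, isPolyFun_linear _, hp,
        fun q hq hmem => hq hmem.2⟩
  · exact codimGE_mono (fun v hv => hv.2) (codimGE_singleton_zero (Module.Basis.singleton (Fin 1) k))

/-- **Lines through every point of a general hypersurface of degree `d`: a cone of codimension at least `d`.** -/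
theorem isGeneric_linesThrough [IsAlgClosed k] (hdm : d ≤ m) :
    IsGeneric k {Φ : Form (m + 1) k d |
      ∀ v : Fin (m + 2) → k, v ≠ 0 → eval v Φ.1 = 0 →
        CodimGE k {w : Fin (m + 2) → k | ∀ s t : k, eval (s • v + t • w) Φ.1 = 0} d} := by
  classical
  refine isGeneric_mono (isGeneric_iInter fun i => isGeneric_good hdm i) fun Φ hΦ v hv hv0 => ?_
  obtain ⟨i, hi⟩ := Function.ne_iff.1 hv
  have hi' : v i ≠ 0 := by simpa using hi
  let u : Fin (m + 1) → k := fun a => (v i)⁻¹ * v (i.succAbove a)
  have hu : Fin.insertNth i (1 : k) u = (v i)⁻¹ • v := _root_.funext fun x => by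
    induction x using Fin.succAboveCases i with
    | x => simp [hi']
    | p a => simp [u]
  have hbad : (localTuple i u Φ).1 ∉ bigLocus k m d (m + 1 - d) := fun hb => by
    refine Set.mem_iInter.1 hΦ i u ⟨hb, ?_⟩
    rw [localTuple_snd, hu, eval_smul_of_isHomogeneous ((mem_homogeneousSubmodule _ _).1 Φ.2), hv0, mul_zero]
  let P : (Fin (m + 2) → k) →ₗ[k] (Fin (m + 1) → k) :=
    LinearMap.pi fun a => LinearMap.proj (i.succAbove a) - u a • LinearMap.proj i
  have hP : Function.Surjective P := fun y => ⟨Fin.insertNth i 0 y, _root_.funext fun a => by simp [P]⟩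
  have hY : CodimGE k {y : Fin (m + 1) → k | ∀ j, eval y ((localTuple i u Φ).1 j).1 = 0} d := by
    rw [codimGE_iff (Pi.basisFun k (Fin (m + 1)))]
    refine (le_height_iff _ _).2 fun Q hQ => ?_
    have h1 : pdim Q ≤ m + 1 - d := by
      by_contra h
      refine hbad ⟨Q, fun j => hQ ?_, by omega⟩
      rintro _ ⟨y, hy, rfl⟩
      rw [aeval_eq_eval]
      simpa [Pi.basisFun_repr] using hy j
    obtain ⟨a, ha⟩ := ENat.ne_top_iff_exists.1 (DimFormula.height_ne_top Q)
    have h2 := height_add_pdim Q
    rw [← ha] at h2 ⊢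
    norm_cast at h2 ⊢
    omega
  refine codimGE_mono (fun w hw => ?_) (codimGE_preimage P hP hY)
  intro j
  rw [localTuple_fst]
  set g := localPoly i u Φ.1
  have hline : ∀ r : k, eval (r • P w) g = 0 := fun r => by
    rw [eval_localPoly, show (Fin.insertNth i 1 fun a => u a + (r • P w) a : Fin (m + 2) → k) =
        ((v i)⁻¹ - r * w i * (v i)⁻¹) • v + r • w from _root_.funext fun x => ?_]
    · exact hw _ _
    · induction x using Fin.succAboveCases i with
      | x =>
        simp only [Fin.insertNth_apply_same, Pi.add_apply, Pi.smul_apply, smul_eq_mul]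
        field_simp
        ring
      | p a =>
        simp only [Fin.insertNth_apply_succAbove, Pi.add_apply, Pi.smul_apply, smul_eq_mul, P, u,
          LinearMap.pi_apply, LinearMap.sub_apply, LinearMap.smul_apply, LinearMap.proj_apply]
        ring
  let Q : Polynomial k := ∑ e ∈ Finset.range (g.totalDegree + 1),
    Polynomial.C (eval (P w) (homogeneousComponent e g)) * Polynomial.X ^ e
  have hQ : Q = 0 := Polynomial.funext fun r => by
    simp only [Q, Polynomial.eval_finsetSum, Polynomial.eval_mul, Polynomial.eval_C, Polynomial.eval_pow,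
      Polynomial.eval_X, Polynomial.eval_zero]
    rw [← hline r]
    conv_rhs => rw [← sum_homogeneousComponent g, map_sum]
    refine Finset.sum_congr rfl fun e _ => ?_
    rw [eval_smul_of_isHomogeneous (homogeneousComponent_isHomogeneous e g), mul_comm]
  by_cases hj : j.1 + 1 ∈ Finset.range (g.totalDegree + 1)
  · have := congrArg (fun R => Polynomial.coeff R (j.1 + 1)) hQ
    simp only [Q, Polynomial.finsetSum_coeff, Polynomial.coeff_C_mul, Polynomial.coeff_X_pow, mul_ite,
      mul_one, mul_zero, Finset.sum_ite_eq, if_pos hj, Polynomial.coeff_zero] at this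
    exact this
  · rw [homogeneousComponent_eq_zero _ _ (by simp at hj; omega), map_zero]

end Groth.Agent.Incid42
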